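import Groth.Agent.DefTan29.Classify

/-!
Families with the same reduction differ by a twist.
-/

universe u

open CategoryTheory CategoryTheory.Limits AlgebraicGeometry TopologicalSpace Opposite IsLocalRing

set_option backward.isDefEq.respectTransparency false
set_option backward.isDefEq.respectTransparency.types false

noncomputable section

namespace Groth.Agent.DefTan29

open Groth.Agent.AModX Groth.Agent.DefGlueLib Scheme ArtFun

variable {k : Type u} [Field k] {X : Scheme.{u}} [X.Over (Spec (CommRingCat.of k))] [QuasiSeparated (xk k X)]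

variable {C C' : Art k k} {p : C' ⟶ C}

theorem phom_surjective (hp : Function.Surjective p) {D : PDef (xk k X) C'} {D₀ : PDef (xk k X) C}
    (π : PHom p D D₀) (U : (AffineZariskiSite X)ᵒᵖ) :
    Function.Surjective (π.app.app U).hom ∧ RingHom.ker (π.app.app U).hom = (RingHom.ker p.toAlgHom).map (D.a U) :=
  ((D.isDef U).map_ker (D₀.isDef U) p _ (π.comm U) (phom_q π U)).2 hp

theorem isNilpotent_ker_app {D : PDef (xk k X) C'} {D₀ : PDef (xk k X) C}
    (π : PHom p D D₀) (U : (AffineZariskiSite X)ᵒᵖ) : IsNilpotent (RingHom.ker (π.app.app U).hom) := by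
  obtain ⟨n, hn⟩ := isNilpotent_ker_q (D.isDef U)
  refine ⟨n, le_bot_iff.1 ((Ideal.pow_right_mono (fun z hz => ?_) n).trans hn.le)⟩
  rw [RingHom.mem_ker] at hz ⊢
  exact (phom_q π U z).symm.trans ((congrArg _ hz).trans (map_zero _))

variable (F : Fr p) {D D' : PDef (xk k X) C'} {D₀ : PDef (xk k X) C} (π : PHom p D D₀) (π' : PHom p D' D₀)

/-- Compatible identifications of the pieces. -/
structure Loc : Type u where
  /-- the maps -/
  ψ : ∀ U : AffineZariskiSite X, D.R.obj (op U) →+* D'.R.obj (op U)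
  ψ_a : ∀ U c, ψ U (D.a (op U) c) = D'.a (op U) c
  ψ_π : ∀ U z, (π'.app.app (op U)).hom (ψ U z) = (π.app.app (op U)).hom z

theorem nonempty_loc [Smooth (xk k X)] (hp : Function.Surjective p) : Nonempty (Loc π π') := by
  have key : ∀ U : AffineZariskiSite X, ∃ ψ : D.R.obj (op U) →+* D'.R.obj (op U),
      (∀ c, ψ (D.a (op U) c) = D'.a (op U) c) ∧
        ∀ z, (π'.app.app (op U)).hom (ψ z) = (π.app.app (op U)).hom z := by
    intro U
    obtain ⟨s, hs, hsc⟩ := exists_lift (str (xk k X) U) (smooth_str U) ((D.a (op U)).comp (algebraMap k C'))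
      (D.qU U).hom (map_qU_surjective D U) (isNilpotent_ker_q (D.isDef (op U))) (RingHom.id _) fun t =>
        ((D.isDef (op U)).comm _).trans (congrArg (str (xk k X) U) (C'.res.commutes t))
    obtain ⟨s', hs', hsc'⟩ := exists_lift (str (xk k X) U) (smooth_str U) ((D'.a (op U)).comp (algebraMap k C'))
      (π'.app.app (op U)).hom (phom_surjective hp π' (op U)).1 (isNilpotent_ker_app π' (op U))
      ((π.app.app (op U)).hom.comp s) fun t => by
        refine (π'.comm (op U) _).trans ((π.comm (op U) (algebraMap k C' t)).symm.trans ?_)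
        exact congrArg (π.app.app (op U)).hom (hsc t).symm
    obtain ⟨ψ, hψa, hψs⟩ := exists_trivHom (D.isDef (op U)) s hs hsc (D'.a (op U)) s' hsc'
    refine ⟨ψ, hψa, RingHom.congr_fun (ext_of_gen (D.isDef (op U)) s hs ((π'.app.app (op U)).hom.comp ψ) _
      (fun c => ?_) fun b => ?_)⟩
    · exact (congrArg (π'.app.app (op U)).hom (hψa c)).trans ((π'.comm (op U) c).trans (π.comm (op U) c).symm)
    · exact (congrArg (π'.app.app (op U)).hom (hψs b)).trans (hs' b)
  choose ψ h1 h2 using key
  exact ⟨⟨ψ, h1, h2⟩⟩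

variable {π π'} (L : Loc π π')

theorem Loc.q_ψ (U : AffineZariskiSite X) (z : D.R.obj (op U)) : (D'.qU U).hom (L.ψ U z) = (D.qU U).hom z := by
  rw [← show (D₀.q.app (op U)).hom ((π'.app.app (op U)).hom (L.ψ U z)) = (D'.qU U).hom (L.ψ U z) from
    phom_q π' (op U) _, L.ψ_π]
  exact phom_q π (op U) z

/-- Homs out of a piece are determined on a bigger piece. -/
theorem hom_ext_piece {U V : AffineZariskiSite X} (h : V ≤ U) {S : Type u} [CommRing S]
    (f g : D.R.obj (op V) →+* S)
    (e : ∀ z, f ((D.R.map (homOfLE h).op).hom z) = g ((D.R.map (homOfLE h).op).hom z)) : f = g := by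
  obtain ⟨b, hb⟩ := id h
  obtain ⟨r, rfl⟩ := map_qU_surjective D U b
  letI := (D.R.map (homOfLE h).op).hom.toAlgebra
  have : IsLocalization.Away r (D.R.obj (op V)) :=
    (D.isDef (op U)).isLocalization_away (rs (AffineZariskiSite.toOpens_mono h))
      (by rw [str_res (xk k X) h]; exact D.isDef (op V)) (D.R.map (homOfLE h).op).hom (D.a_map _) (D.q_map _) r
      (U.2.isLocalization_of_eq_basicOpen _ _ hb.symm)
  exact IsLocalization.ringHom_ext (Submonoid.powers r) (RingHom.ext e)

theorem Loc.exists_ext {U V : AffineZariskiSite X} (h : V ≤ U) :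
    ∃ t : D.R.obj (op V) →+* D'.R.obj (op V),
      ∀ z, t ((D.R.map (homOfLE h).op).hom z) = (D'.R.map (homOfLE h).op).hom (L.ψ U z) := by
  obtain ⟨b, hb⟩ := id h
  obtain ⟨r, rfl⟩ := map_qU_surjective D U b
  letI := (D.R.map (homOfLE h).op).hom.toAlgebra
  have hloc : letI := (rs (AffineZariskiSite.toOpens_mono h)).toAlgebra
      IsLocalization.Away ((D.qU U).hom r) Γ(X, V.toOpens) :=
    U.2.isLocalization_of_eq_basicOpen _ _ hb.symm
  have : IsLocalization.Away r (D.R.obj (op V)) :=
    (D.isDef (op U)).isLocalization_away (rs (AffineZariskiSite.toOpens_mono h))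
      (by rw [str_res (xk k X) h]; exact D.isDef (op V)) (D.R.map (homOfLE h).op).hom (D.a_map _) (D.q_map _) r hloc
  have hu : IsUnit (((D'.R.map (homOfLE h).op).hom.comp (L.ψ U)) r) := by
    refine (D'.isDef (op V)).isUnit_of_isUnit ?_
    refine (congrArg IsUnit (show (D'.q.app (op V)).hom (((D'.R.map (homOfLE h).op).hom.comp (L.ψ U)) r) =
      rs (AffineZariskiSite.toOpens_mono h) ((D.qU U).hom r) from
      (D'.q_map (homOfLE h).op _).trans (congrArg (rs (AffineZariskiSite.toOpens_mono h)) (L.q_ψ U r)))).mpr ?_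
    let _ := (rs (AffineZariskiSite.toOpens_mono h)).toAlgebra
    exact @IsLocalization.Away.algebraMap_isUnit _ _ _ _ _ ((D.qU U).hom r) hloc
  exact ⟨IsLocalization.Away.lift r hu, fun z => IsLocalization.Away.lift_eq r hu z⟩

/-- The extension of an identification to a smaller piece. -/
def Loc.ext {U V : AffineZariskiSite X} (h : V ≤ U) : D.R.obj (op V) →+* D'.R.obj (op V) :=
  (L.exists_ext h).choose

theorem Loc.ext_map {U V : AffineZariskiSite X} (h : V ≤ U) (z : D.R.obj (op U)) :
    L.ext h ((D.R.map (homOfLE h).op).hom z) = (D'.R.map (homOfLE h).op).hom (L.ψ U z) :=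
  (L.exists_ext h).choose_spec z

theorem Loc.ext_a {U V : AffineZariskiSite X} (h : V ≤ U) (c : C') : L.ext h (D.a (op V) c) = D'.a (op V) c := by
  rw [← D.a_map (homOfLE h).op c]
  exact (L.ext_map h _).trans ((congrArg _ (L.ψ_a U c)).trans (D'.a_map (homOfLE h).op c))

theorem Loc.ext_π {U V : AffineZariskiSite X} (h : V ≤ U) (w : D.R.obj (op V)) :
    (π'.app.app (op V)).hom (L.ext h w) = (π.app.app (op V)).hom w := by
  refine RingHom.congr_fun (hom_ext_piece h ((π'.app.app (op V)).hom.comp (L.ext h)) _ fun z => ?_) w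
  refine (congrArg _ (L.ext_map h z)).trans ?_
  refine (ConcreteCategory.congr_hom (π'.app.naturality (homOfLE h).op) (L.ψ U z)).trans ?_
  refine (congrArg (D₀.R.map (homOfLE h).op).hom (L.ψ_π U z)).trans ?_
  exact (ConcreteCategory.congr_hom (π.app.naturality (homOfLE h).op) z).symm

theorem Loc.map_ext {U V T : AffineZariskiSite X} (h : V ≤ U) (h' : T ≤ V) (w : D.R.obj (op V)) :
    (D'.R.map (homOfLE h').op).hom (L.ext h w) = L.ext (h'.trans h) ((D.R.map (homOfLE h').op).hom w) := by
  refine RingHom.congr_fun (hom_ext_piece h ((D'.R.map (homOfLE h').op).hom.comp (L.ext h))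
    ((L.ext (h'.trans h)).comp (D.R.map (homOfLE h').op).hom) fun z => ?_) w
  refine (congrArg _ (L.ext_map h z)).trans ?_
  refine (ConcreteCategory.congr_hom (D'.R.map_comp (homOfLE h).op (homOfLE h').op) _).symm.trans ?_
  refine (L.ext_map (h'.trans h) z).symm.trans (congrArg (L.ext (h'.trans h)) ?_)
  exact ConcreteCategory.congr_hom (D.R.map_comp (homOfLE h).op (homOfLE h').op) z

variable (hp : Function.Surjective p)

include hp

theorem Loc.close {U V : AffineZariskiSite X} (h : V ≤ U) :
    Close (a := D.a (op V)) (q := (D.qU V).hom) (a' := D'.a (op V)) (q' := (D'.qU V).hom) F (L.ext h) (L.ψ V) :=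
  ⟨L.ext_a h, L.ψ_a V, L.q_ψ V, fun z => by
    rw [← (phom_surjective hp π' (op V)).2, RingHom.mem_ker, map_sub, L.ext_π, L.ψ_π, sub_self]⟩

theorem Loc.close' {U V T : AffineZariskiSite X} (h : V ≤ U) (h' : T ≤ V) (z : D.R.obj (op T)) :
    L.ext (h'.trans h) z - L.ext h' z ∈ F.J.map (D'.a (op T)) := by
  rw [← (phom_surjective hp π' (op T)).2, RingHom.mem_ker, map_sub, L.ext_π, L.ext_π, sub_self]

/-- The cocycle of coordinates. -/
def Loc.cdata (j : Fin F.r) : CData k X where
  D {U V} h := dif (D.isDef (op V)) (D'.isDef (op V)) F (L.ext h) (L.ψ V) (L.close F hp h) j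
  mul {U V} h := dif_mul (D.isDef (op V)) (D'.isDef (op V)) F (L.ext h) (L.ψ V) (L.close F hp h) j
  const {U V} h := dif_const (D.isDef (op V)) (D'.isDef (op V)) F (L.ext h) (L.ψ V) (L.close F hp h) j
  cocy {U V T} h h' b := by
    obtain ⟨z, rfl⟩ := map_qU_surjective D V b
    let i : op V ⟶ op T := (homOfLE h').op
    let w := (D.R.map i).hom z
    have hqw : rs (AffineZariskiSite.toOpens_mono h') ((D.qU V).hom z) = (D.qU T).hom w := (D.q_map i z).symm
    refine (congrArg (rs _) (dif_apply (D.isDef (op V)) (D'.isDef (op V)) F (L.ext h) (L.ψ V) (L.close F hp h) j z)).trans ?_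
    refine (pair_natural (D'.isDef (op V)) (F.isFun j) (D'.isDef (op T)) _ _ (D'.a_map i) (D'.q_map i)
      (fun t => DFunLike.congr_fun (str_res (xk k X) h') t) ((L.close F hp h).mem z)).trans ?_
    refine Eq.trans ?_ (congrArg₂ (· - ·)
      ((congrArg (dif (D.isDef (op T)) (D'.isDef (op T)) F (L.ext (h'.trans h)) (L.ψ T) (L.close F hp (h'.trans h)) j) hqw).trans
        (dif_apply (D.isDef (op T)) (D'.isDef (op T)) F (L.ext (h'.trans h)) (L.ψ T) (L.close F hp (h'.trans h)) j w))
      ((congrArg (dif (D.isDef (op T)) (D'.isDef (op T)) F (L.ext h') (L.ψ T) (L.close F hp h') j) hqw).trans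
        (dif_apply (D.isDef (op T)) (D'.isDef (op T)) F (L.ext h') (L.ψ T) (L.close F hp h') j w))).symm
    rw [map_sub, L.map_ext h h', ← L.ext_map h', eq_sub_iff_add_eq,
      ← pair_add _ _ (L.close' F hp h h' w) ((L.close F hp h').mem w), sub_add_sub_cancel]

theorem exists_twist_of_loc (L : Loc π π') :
    ∃ (α : Fin F.r → (Omega.sheaf (xk k X) ⟶ Z1 X)) (ψ : PHom (𝟙 C') (tw D F.ys F.small α) D'),
      ∀ U z, (π'.app.app U).hom ((ψ.app.app U).hom z) = (π.app.app U).hom z := by
  choose α hα using fun j => (L.cdata F hp j).toDer_app_δ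
  have nat : ∀ {U V : AffineZariskiSite X} (f : op U ⟶ op V) (z : D.R.obj (op U)),
      L.ψ V (twHom D F.ys F.small α f.unop.le ((D.R.map f).hom z)) = (D'.R.map f).hom (L.ψ U z) := by
    intro U V f z
    have h : V ≤ U := f.unop.le
    obtain rfl : f = (homOfLE h).op := Subsingleton.elim _ _
    let w := (D.R.map (homOfLE h).op).hom z
    refine Eq.trans ?_ (L.ext_map h z)
    have hs := sub_eq_sum (D.isDef (op V)) (D'.isDef (op V)) F (L.ext h) (L.ψ V) (L.close F hp h) w
      (fun j => (map_qU_surjective D' V (δ (α j) h ((D.qU V).hom w))).choose) fun j =>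
        (map_qU_surjective D' V (δ (α j) h ((D.qU V).hom w))).choose_spec.trans (hα j h _)
    rw [twHom_apply, map_add]
    refine Eq.trans ?_ (sub_eq_iff_eq_add'.1 hs).symm
    refine congrArg (L.ψ V w + ·) ?_
    rw [corr, map_sum]
    refine Finset.sum_congr rfl fun j _ => ?_
    obtain ⟨z', hz'⟩ := map_qU_surjective D V (δ (α j) h ((D.qU V).hom w))
    refine (congrArg (L.ψ V) (ins_eq D (F.small j) z' hz')).trans ?_
    refine (map_mul _ _ _).trans ((congrArg (· * _) (L.ψ_a V _)).trans ?_)
    exact ((ins_eq D' (F.small j) (L.ψ V z') ((L.q_ψ V z').trans hz')).symm.trans rfl)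
  refine ⟨α, { app := { app := fun U => CommRingCat.ofHom (L.ψ U.unop)
                        naturality := fun U V f => CommRingCat.hom_ext (RingHom.ext fun z => ?_) }
               comm := fun U c => L.ψ_a U.unop c
               q_app := NatTrans.ext (funext fun U => CommRingCat.hom_ext (RingHom.ext fun z => L.q_ψ U.unop z)) },
    fun U z => L.ψ_π U.unop z⟩
  exact nat f z

theorem exists_twist [Smooth (xk k X)] (π : PHom p D D₀) (π' : PHom p D' D₀) :
    ∃ (α : Fin F.r → (Omega.sheaf (xk k X) ⟶ Z1 X)) (ψ : PHom (𝟙 C') (tw D F.ys F.small α) D'),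
      ∀ U z, (π'.app.app U).hom ((ψ.app.app U).hom z) = (π.app.app U).hom z :=
  exists_twist_of_loc F hp (nonempty_loc π π' hp).some

end Groth.Agent.DefTan29
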