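import Groth.Agent.DefTan29.MLift
import Groth.Agent.Synt29.ExtReal
import Groth.Agent.Lib.BasisHom
import Groth.Agent.QCoh.VanIdeal
import Groth.Agent.QCoh.CechStd
import Groth.Agent.SiteBase.ExtMod

/-!
Classes in `Ext¹(Ω, O)` are cocycles of derivations modulo coboundaries.
-/

universe u

open CategoryTheory CategoryTheory.Limits AlgebraicGeometry TopologicalSpace Opposite Abelian

set_option backward.isDefEq.respectTransparency false
set_option backward.isDefEq.respectTransparency.types false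

noncomputable section

namespace Groth.Agent.DefTan29

open Groth.Agent.AModX Scheme

variable {k : Type u} [Field k] {X : Scheme.{u}} [X.Over (Spec (CommRingCat.of k))] [QuasiSeparated (xk k X)]
  [HasExt.{u} X.Modules]

local notation "x₀" => xk k X
variable (X) in
/-- The opens of the affine pieces. -/
abbrev tO' : AffineZariskiSite X → X.Opens := fun U => U.toOpens

local notation "tO" => tO' X

variable (k X) in
/-- The class of a cocycle. -/
def kappa : (Omega.sheaf x₀ ⟶ Z1 X) →ₗ[k] Ext.{u} (Omega.sheaf x₀) (Coh.structureModule X) 1 where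
  toFun α := (Ext.mk₀ α).comp (seq_shortExact X).extClass (zero_add 1)
  map_add' α β := by rw [Ext.mk₀_add, Ext.add_comp]
  map_smul' c α := by rw [Ext.mk₀_smul, Ext.smul_comp]; rfl

theorem kappa_eq_zero_iff (α : Omega.sheaf x₀ ⟶ Z1 X) :
    kappa k X α = 0 ↔ ∃ φ : Omega.sheaf x₀ ⟶ P0 X, φ ≫ coBZ X = α := by
  constructor
  · intro h
    obtain ⟨y, hy⟩ := Ext.covariant_sequence_exact₃ _ (seq_shortExact X) (Ext.mk₀ α) (zero_add 1) h
    obtain ⟨φ, rfl⟩ := (Ext.addEquiv₀).symm.surjective y
    refine ⟨φ, Ext.addEquiv₀.symm.injective ?_⟩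
    exact (Ext.mk₀_comp_mk₀ φ (coBZ X)).symm.trans hy
  · rintro ⟨φ, rfl⟩
    show (Ext.mk₀ (φ ≫ coBZ X)).comp (seq_shortExact X).extClass (zero_add 1) = 0
    rw [← Ext.mk₀_comp_mk₀]
    exact (Ext.comp_assoc_of_second_deg_zero (Ext.mk₀ φ) (Ext.mk₀ (coBZ X)) (seq_shortExact X).extClass
      (zero_add 1)).trans ((congrArg (fun z => (Ext.mk₀ φ).comp z (zero_add 1))
        (seq_shortExact X).comp_extClass).trans (Ext.comp_zero _ _ _ _ _))

omit [HasExt.{u} X.Modules] in
theorem exists_factor [Smooth x₀] {E : X.Modules} (ι : Coh.structureModule X ⟶ E) (π : E ⟶ Omega.sheaf x₀)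
    (w : ι ≫ π = 0) (hS : (ShortComplex.mk ι π w).ShortExact) :
    ∃ h : E ⟶ P0 X, ι ≫ h = incl (Coh.structureModule X) tO := by
  haveI : Mono ι := hS.mono_f
  obtain ⟨d, hd⟩ := exists_mData π fun U => QCoh.app_surjective_of_shortExact hS QCoh.isQCoh_structureModule U.2
  obtain ⟨σ, hσ⟩ := d.exists_hom
  haveI : Mono (map tO ι) := QCoh.mono_of_app_injective _ fun W s t hst =>
    funext fun U => QCoh.app_injective ι _ (congrFun hst U)
  have hw : map tO ι ≫ map tO π = 0 := by
    refine Scheme.Modules.hom_ext _ _ fun W => ?_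
    ext s
    refine funext fun U => ?_
    exact congrArg (fun φ : Coh.structureModule X ⟶ Omega.sheaf x₀ => φ.app (W ⊓ U.toOpens) (toFam s U)) w
  have hexact : (ShortComplex.mk (map tO ι) (map tO π) hw).Exact := by
    refine RelTildeX.exact_of_locally _ fun W s hs p hp => ?_
    choose t ht using fun U : AffineZariskiSite X => BasisHom.exists_app_eq_of_exact
      (S := ShortComplex.mk ι π w) hS.exact (W ⊓ U.toOpens) (toFam s U) (congrFun hs U)
    exact ⟨W, le_rfl, hp, ofFam t, (show (map tO ι).app W (ofFam t) = s from funext ht).trans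
      (AModX.res_self s).symm⟩
  have hπσ : σ ≫ map tO π = incl (Omega.sheaf x₀) tO := hom_ext fun W s => funext fun U => by
    show π.app (W ⊓ U.toOpens) (toFam (σ.app W ((OmegaSh.dOmega x₀).app W s)) U) =
      res _ inf_le_left ((OmegaSh.dOmega x₀).app W s)
    refine AModX.eq_of_locally _ _ fun q hq => ?_
    obtain ⟨T, hT, hTW, hqT⟩ := MData.exists_cover hq
    refine ⟨T.toOpens, le_inf hTW (AffineZariskiSite.toOpens_mono hT), hqT, ?_⟩
    rw [← app_res, hσ W s U T hT hTW, hd hT, res_res]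
    exact (OmegaSh.dOmega x₀).d_map (homOfLE hTW).op s
  let h₀ : E ⟶ Pi E tO := incl E tO - π ≫ σ
  have h₀π : h₀ ≫ map tO π = 0 := by
    rw [Preadditive.sub_comp, Category.assoc, hπσ, sub_eq_zero]
    refine Scheme.Modules.hom_ext _ _ fun W => ?_
    ext s
    refine funext fun U => ?_
    exact app_res π inf_le_left s
  refine ⟨hexact.lift h₀ h₀π, ?_⟩
  rw [← cancel_mono (map tO ι), Category.assoc, hexact.lift_f, Preadditive.comp_sub, ← Category.assoc, w,
    zero_comp, sub_zero]
  refine Scheme.Modules.hom_ext _ _ fun W => ?_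
  ext s
  refine funext fun U => ?_
  exact (app_res ι inf_le_left s).symm

theorem kappa_surjective [Smooth x₀] : Function.Surjective (kappa k X) := by
  intro e
  haveI : EnoughInjectives X.Modules := inferInstanceAs (EnoughInjectives (SheafOfModules _))
  obtain ⟨E, ι, π, w, hS, rfl⟩ := Synt29.ExtReal.exists_shortExact_extClass_eq e
  obtain ⟨h, hh⟩ := exists_factor ι π w hS
  haveI : Epi π := hS.epi_g
  let τ : Omega.sheaf x₀ ⟶ Z1 X := hS.exact.desc (h ≫ coBZ X) (by
    show ι ≫ h ≫ coBZ X = 0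
    rw [← Category.assoc, hh, incl_coBZ])
  let f : ShortComplex.mk ι π w ⟶ seq X :=
    { τ₁ := 𝟙 _
      τ₂ := h
      τ₃ := τ
      comm₁₂ := (Category.id_comp _).trans hh.symm
      comm₂₃ := (hS.exact.g_desc _ _).symm }
  have h1 := ShortComplex.ShortExact.extClass_naturality hS (seq_shortExact X) f
  refine ⟨τ, ?_⟩
  rw [show f.τ₁ = 𝟙 (Coh.structureModule X) from rfl, Ext.comp_mk₀_id] at h1
  exact h1.symm

end Groth.Agent.DefTan29
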