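import Groth.Agent.DefTan29.Tangent
import Groth.Agent.Lib.PnDualSheafHom
import Groth.Agent.AmpleVan.LiftFibre
import Groth.Agent.CurveCohLib.Rank
import Groth.Agent.S1488
import Groth.Agent.S5018

/-!
`Ext¹(Ω, O)` as cohomology of the tangent sheaf.
-/

universe u

open CategoryTheory CategoryTheory.Limits AlgebraicGeometry TopologicalSpace Opposite

noncomputable section

namespace Groth.Agent.DefTan29

variable {k : Type u} [Field k] {X : Scheme.{u}} [X.Over (Spec (CommRingCat.of k))]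
  [QuasiSeparated (X ↘ Spec (CommRingCat.of k))]

theorem isFinLocFree_omega' [Smooth (X ↘ Spec (CommRingCat.of k))] :
    FlatMod.IsFinLocFree (Omega.sheaf (X ↘ Spec (CommRingCat.of k))) :=
  S5018.result (X ↘ Spec (CommRingCat.of k)) ((S1488.result _).1 inferInstance).2 _ _
    (OmegaUniv.isUniversal_dOmega _)

theorem nonempty_ext_tangentSheaf [Smooth (X ↘ Spec (CommRingCat.of k))] [HasExt.{u} X.Modules]
    [DCoh.HasSheafHom (Omega.sheaf (X ↘ Spec (CommRingCat.of k)))] (n : ℕ) :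
    Nonempty (Abelian.Ext.{u} (Omega.sheaf (X ↘ Spec (CommRingCat.of k))) (Coh.structureModule X) n ≃ₗ[k]
      Coh.HH X ((DCoh.sheafHom (Omega.sheaf (X ↘ Spec (CommRingCat.of k)))).obj (Coh.structureModule X)) n) := by
  obtain ⟨e⟩ := PnDual.nonempty_ext_linearEquiv_HH (A := k) (isFinLocFree_omega' (k := k) (X := X)) (Coh.structureModule X) n
  exact ⟨e ≪≫ₗ CurveCohLib.hhEquiv (k := k)
    ((AmpleVan.sheafHomIso (Omega.sheaf (X ↘ Spec (CommRingCat.of k)))).app (Coh.structureModule X)).symm n⟩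

theorem nonempty_tangent_HH [Smooth (X ↘ Spec (CommRingCat.of k))]
    [DCoh.HasSheafHom (Omega.sheaf (X ↘ Spec (CommRingCat.of k)))]
    [ArtFun.TangentStr (ArtFun.defFunctor (Λ := k) X (X ↘ Spec (CommRingCat.of k)))] :
    Nonempty (ArtFun.TangentSpace (ArtFun.defFunctor (Λ := k) X (X ↘ Spec (CommRingCat.of k))) ≃ₗ[k]
      Coh.HH X ((DCoh.sheafHom (Omega.sheaf (X ↘ Spec (CommRingCat.of k)))).obj (Coh.structureModule X)) 1) := by
  haveI : HasExt.{u} X.Modules := IsGrothendieckAbelian.hasExt _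
  obtain ⟨e⟩ := nonempty_tangent_linearEquiv (k := k) (X := X)
  obtain ⟨e'⟩ := nonempty_ext_tangentSheaf (k := k) (X := X) 1
  exact ⟨e ≪≫ₗ e'⟩

end Groth.Agent.DefTan29
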