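import Groth.Agent.DefTan29.Seq
import Groth.Agent.OmegaUniv.Universal
import Groth.Prelude.Def_KLin

/-!
Maps from differentials to cocycles are compatible families of derivations on affine pieces.
-/

universe u

open CategoryTheory CategoryTheory.Limits AlgebraicGeometry TopologicalSpace Opposite

set_option backward.isDefEq.respectTransparency false
set_option backward.isDefEq.respectTransparency.types false

noncomputable section

namespace Groth.Agent.DefTan29

open Groth.Agent.AModX Groth.Agent.DefGlueLib Scheme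

variable {k : Type u} [Field k] {X : Scheme.{u}} [X.Over (Spec (CommRingCat.of k))]

variable (k X) in
/-- The structure morphism to the point. -/
abbrev xk : X ⟶ ArtFun.Art.specPt k := X ↘ Spec (CommRingCat.of k)

local notation "x₀" => xk k X

variable [QuasiSeparated (xk k X)]

/-- A section of the structure module as a function. -/
abbrev fn {W : X.Opens} (s : Γ(Coh.structureModule X, W)) : Γ(X, W) := OmegaSh.fnSect X W s

/-- A function as a section of the structure module. -/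
abbrev sec {W : X.Opens} (s : Γ(X, W)) : Γ(Coh.structureModule X, W) := OmegaSh.strSect X W s

theorem fn_res {W W' : X.Opens} (h : W' ≤ W) (s : Γ(Coh.structureModule X, W)) :
    fn (res _ h s) = rs h (fn s) := rfl

omit [QuasiSeparated x₀] [X.Over (Spec (CommRingCat.of k))] in
theorem zval_add {W : X.Opens} (c d : Γ(Z1 X, W)) : zval X (c + d) = zval X c + zval X d := rfl

omit [QuasiSeparated x₀] [X.Over (Spec (CommRingCat.of k))] in
theorem zval_zero {W : X.Opens} : zval X (0 : Γ(Z1 X, W)) = 0 := rfl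

omit [QuasiSeparated x₀] [X.Over (Spec (CommRingCat.of k))] in
theorem zval_smul {W : X.Opens} (r : Γ(X, W)) (c : Γ(Z1 X, W)) : zval X (r • c) = r • zval X c := rfl

/-- The value of a map to cocycles at a pair, on a function. -/
def val (α : Omega.sheaf x₀ ⟶ Z1 X) (W : X.Opens) (p : Pr X) (s : Γ(X, W)) : Γ(X, W ⊓ p.1.2.toOpens) :=
  fn (toFam (zval X (α.app W ((OmegaSh.dOmega x₀).app W s))) p)

theorem val_res (α : Omega.sheaf x₀ ⟶ Z1 X) {W W' : X.Opens} (h : W' ≤ W) (p : Pr X) (s : Γ(X, W)) :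
    val α W' p (rs h s) = rs (inf_le_inf_right _ h) (val α W p s) := by
  have h1 : (OmegaSh.dOmega x₀).app W' (rs h s) = res _ h ((OmegaSh.dOmega x₀).app W s) :=
    (OmegaSh.dOmega x₀).d_map (homOfLE h).op s
  have h2 := congrArg (fun m => toFam (zval X m) p) (app_res α h ((OmegaSh.dOmega x₀).app W s))
  have h3 : zval X (res (Z1 X) h (α.app W ((OmegaSh.dOmega x₀).app W s))) =
      res (P1 X) h (zval X (α.app W ((OmegaSh.dOmega x₀).app W s))) :=
    app_res (cocy X).ι h _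
  show fn (toFam (zval X (α.app W' ((OmegaSh.dOmega x₀).app W' (rs h s)))) p) = _
  rw [h1, h2, h3]
  rfl

theorem val_mul (α : Omega.sheaf x₀ ⟶ Z1 X) (W : X.Opens) (p : Pr X) (s t : Γ(X, W)) :
    val α W p (s * t) = rs inf_le_left s * val α W p t + rs inf_le_left t * val α W p s := by
  show fn (toFam (zval X (α.app W ((OmegaSh.dOmega x₀).app W (s * t)))) p) = _
  rw [show (OmegaSh.dOmega x₀).app W (s * t) =
    s • (OmegaSh.dOmega x₀).app W t + t • (OmegaSh.dOmega x₀).app W s from (OmegaSh.dOmega x₀).d_mul (X := op W) s t,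
    map_add, zval_add, Scheme.Modules.Hom.app_smul, Scheme.Modules.Hom.app_smul, zval_smul, zval_smul]
  rfl

theorem val_const (α : Omega.sheaf x₀ ⟶ Z1 X) (p : Pr X) (U : AffineZariskiSite X) (c : k) :
    val α U.toOpens p (str x₀ U c) = 0 := by
  have h0 : val α ⊤ p ((x₀).app ⊤ ((Scheme.ΓSpecIso (CommRingCat.of k)).inv c)) = 0 := by
    show fn (toFam (zval X (α.app ⊤ ((OmegaSh.dOmega x₀).app ⊤ _))) p) = 0
    rw [show (OmegaSh.dOmega x₀).app ⊤ ((x₀).app ⊤ ((Scheme.ΓSpecIso (CommRingCat.of k)).inv c)) = 0 from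
      (OmegaSh.dOmega x₀).d_app (X := op ⊤) ((Scheme.ΓSpecIso (CommRingCat.of k)).inv c), map_zero, zval_zero]
    rfl
  exact (val_res α le_top p _).trans ((congrArg (rs _) h0).trans (map_zero _))

theorem val_cocy (α : Omega.sheaf x₀ ⟶ Z1 X) (W : X.Opens) {U V T : AffineZariskiSite X} (h : V ≤ U) (h' : T ≤ V)
    (s : Γ(X, W)) :
    val α W ⟨(U, T), h'.trans h⟩ s =
      rs (inf_le_inf_left _ (AffineZariskiSite.toOpens_mono h')) (val α W ⟨(U, V), h⟩ s) +
        val α W ⟨(V, T), h'⟩ s := by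
  have e := congrArg (OmegaSh.fnSect X (W ⊓ T.toOpens)) ((cocy X).ι_app_mem W (α.app W ((OmegaSh.dOmega x₀).app W s)) U V T h h')
  rw [map_add] at e
  exact e

/-- The derivation of a map to cocycles at a pair. -/
def δ (α : Omega.sheaf x₀ ⟶ Z1 X) {U V : AffineZariskiSite X} (h : V ≤ U) :
    Γ(X, V.toOpens) →+ Γ(X, V.toOpens) :=
  AddMonoidHom.mk' (fun a => rs (le_inf le_rfl le_rfl) (val α V.toOpens ⟨(U, V), h⟩ a)) fun a b => by
    rw [← map_add]
    refine congrArg (rs _) ?_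
    show fn (toFam (zval X (α.app _ ((OmegaSh.dOmega x₀).app _ (a + b)))) _) = _
    rw [map_add, map_add, zval_add]
    rfl

theorem δ_apply (α : Omega.sheaf x₀ ⟶ Z1 X) {U V : AffineZariskiSite X} (h : V ≤ U) (a : Γ(X, V.toOpens)) :
    δ α h a = rs (le_inf le_rfl le_rfl) (val α V.toOpens ⟨(U, V), h⟩ a) := rfl

theorem δ_mul (α : Omega.sheaf x₀ ⟶ Z1 X) {U V : AffineZariskiSite X} (h : V ≤ U) (a b : Γ(X, V.toOpens)) :
    δ α h (a * b) = a * δ α h b + b * δ α h a := by
  rw [δ_apply, δ_apply, δ_apply, val_mul, map_add, map_mul, map_mul, rs_rs, rs_rs]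
  have e : ∀ c : Γ(X, V.toOpens), rs (le_refl V.toOpens) c = c := fun c => resR_self c
  rw [e, e]

theorem δ_const (α : Omega.sheaf x₀ ⟶ Z1 X) {U V : AffineZariskiSite X} (h : V ≤ U) (c : k) :
    δ α h (str x₀ V c) = 0 := by
  rw [δ_apply, val_const, map_zero]

theorem rs_val_eq (α : Omega.sheaf x₀ ⟶ Z1 X) (W : X.Opens) {U V T : AffineZariskiSite X} (h : V ≤ U) (h' : T ≤ V)
    (hT : T.toOpens ≤ W) (s : Γ(X, W)) :
    rs (le_inf hT (AffineZariskiSite.toOpens_mono h')) (val α W ⟨(U, V), h⟩ s) =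
      δ α (h'.trans h) (rs hT s) - δ α h' (rs hT s) := by
  rw [δ_apply, δ_apply, val_res, val_res, rs_rs, rs_rs, val_cocy α W h h' s, map_add, rs_rs,
    add_sub_cancel_right]

theorem δ_cocy (α : Omega.sheaf x₀ ⟶ Z1 X) {U V T : AffineZariskiSite X} (h : V ≤ U) (h' : T ≤ V)
    (a : Γ(X, V.toOpens)) :
    rs (AffineZariskiSite.toOpens_mono h') (δ α h a) =
      δ α (h'.trans h) (rs (AffineZariskiSite.toOpens_mono h') a) -
        δ α h' (rs (AffineZariskiSite.toOpens_mono h') a) := by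
  rw [← rs_val_eq α V.toOpens h h' (AffineZariskiSite.toOpens_mono h') a, δ_apply, rs_rs]

theorem hom_ext {F : X.Modules} {β β' : Omega.sheaf x₀ ⟶ F}
    (h : ∀ (W : X.Opens) (s : Γ(X, W)),
      β.app W ((OmegaSh.dOmega x₀).app W s) = β'.app W ((OmegaSh.dOmega x₀).app W s)) : β = β' := by
  obtain ⟨γ, -, hγ⟩ := OmegaUniv.isUniversal_dOmega x₀ F ((OmegaSh.dOmega x₀).postcomp β'.val)
  refine (hγ β ?_).trans (hγ β' rfl).symm
  exact PresheafOfModules.Derivation.ext (funext fun W => AddMonoidHom.ext fun s => h W.unop s)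

theorem δ_ext {α β : Omega.sheaf x₀ ⟶ Z1 X}
    (h : ∀ {U V : AffineZariskiSite X} (hVU : V ≤ U) a, δ α hVU a = δ β hVU a) : α = β := by
  refine hom_ext fun W s => Subtype.ext (funext fun p => ?_)
  refine AModX.eq_of_locally _ _ fun q hq => ?_
  obtain ⟨B, hqB, hB⟩ := DefGlueLib.exists_site_le hq.1
  obtain ⟨T, hTB, hTV, hqT⟩ := DefGlueLib.exists_common B p.1.2 ⟨hqB, hq.2⟩
  refine ⟨T.toOpens, le_inf ((AffineZariskiSite.toOpens_mono hTB).trans hB) (AffineZariskiSite.toOpens_mono hTV), hqT, ?_⟩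
  have e1 := rs_val_eq α W p.2 hTV ((AffineZariskiSite.toOpens_mono hTB).trans hB) s
  have e2 := rs_val_eq β W p.2 hTV ((AffineZariskiSite.toOpens_mono hTB).trans hB) s
  rw [h, h] at e1
  exact e1.trans e2.symm

theorem val_add (α β : Omega.sheaf x₀ ⟶ Z1 X) (W : X.Opens) (p : Pr X) (s : Γ(X, W)) :
    val (α + β) W p s = val α W p s + val β W p s := rfl

theorem δ_add (α β : Omega.sheaf x₀ ⟶ Z1 X) {U V : AffineZariskiSite X} (h : V ≤ U) (a : Γ(X, V.toOpens)) :
    δ (α + β) h a = δ α h a + δ β h a := by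
  rw [δ_apply, δ_apply, δ_apply, val_add, map_add]

theorem δ_smul (c : k) (α : Omega.sheaf x₀ ⟶ Z1 X) {U V : AffineZariskiSite X} (h : V ≤ U)
    (a : Γ(X, V.toOpens)) : δ (c • α) h a = str x₀ V c * δ α h a := by
  rw [δ_apply, δ_apply]
  show rs _ (fn (toFam (zval X ((c • α).app V.toOpens ((OmegaSh.dOmega x₀).app V.toOpens a))) ⟨(U, V), h⟩)) = _
  rw [KLin.smul_app_apply, zval_smul]
  show rs _ (rs inf_le_left (rs le_top (Coh.toGlobal (X ↘ Spec (CommRingCat.of k)) c)) *
    val α V.toOpens ⟨(U, V), h⟩ a) = _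
  rw [map_mul, rs_rs, rs_rs]
  rfl

variable (k X) in
/-- Compatible families of derivations on nested pairs. -/
structure CData : Type u where
  /-- the derivations -/
  D : ∀ {U V : AffineZariskiSite X}, V ≤ U → Γ(X, V.toOpens) →+ Γ(X, V.toOpens)
  mul : ∀ {U V : AffineZariskiSite X} (h : V ≤ U) a b, D h (a * b) = a * D h b + b * D h a
  const : ∀ {U V : AffineZariskiSite X} (h : V ≤ U) c, D h (str x₀ V c) = 0
  cocy : ∀ {U V T : AffineZariskiSite X} (h : V ≤ U) (h' : T ≤ V) a,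
    rs (AffineZariskiSite.toOpens_mono h') (D h a) =
      D (h'.trans h) (rs (AffineZariskiSite.toOpens_mono h') a) - D h' (rs (AffineZariskiSite.toOpens_mono h') a)

namespace CData

variable (d : CData k X)

theorem self (V : AffineZariskiSite X) (a : Γ(X, V.toOpens)) : d.D (le_refl V) a = 0 := by
  have h := d.cocy (le_refl V) (le_refl V) a
  have e : ∀ c : Γ(X, V.toOpens), rs (le_refl V.toOpens) c = c := fun c => resR_self c
  rw [e, e, sub_self] at h
  exact h

/-- The value on a function over any open at a pair. -/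
def Val (W : X.Opens) (p : Pr X) (s : Γ(X, W)) (t : Γ(X, W ⊓ p.1.2.toOpens)) : Prop :=
  ∀ (T : AffineZariskiSite X) (h : T ≤ p.1.2) (hT : T.toOpens ≤ W),
    rs (le_inf hT (AffineZariskiSite.toOpens_mono h)) t = d.D (h.trans p.2) (rs hT s) - d.D h (rs hT s)

theorem exists_cover {W : X.Opens} {p : Pr X} {q : X} (hq : q ∈ W ⊓ p.1.2.toOpens) :
    ∃ (T : AffineZariskiSite X), T ≤ p.1.2 ∧ T.toOpens ≤ W ∧ q ∈ T.toOpens := by
  obtain ⟨B, hqB, hB⟩ := DefGlueLib.exists_site_le hq.1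
  obtain ⟨T, hTB, hTV, hqT⟩ := DefGlueLib.exists_common B p.1.2 ⟨hqB, hq.2⟩
  exact ⟨T, hTV, (AffineZariskiSite.toOpens_mono hTB).trans hB, hqT⟩

theorem val_unique {W : X.Opens} {p : Pr X} {s : Γ(X, W)} {t t' : Γ(X, W ⊓ p.1.2.toOpens)}
    (h : d.Val W p s t) (h' : d.Val W p s t') : t = t' :=
  DefGlueLib.eq_of_locally fun q hq => by
    obtain ⟨T, hT, hTW, hqT⟩ := exists_cover hq
    exact ⟨T.toOpens, _, hqT, (h T hT hTW).trans (h' T hT hTW).symm⟩

theorem exists_val (W : X.Opens) (p : Pr X) (s : Γ(X, W)) : ∃ t, d.Val W p s t := by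
  let ι := {T : AffineZariskiSite X // T ≤ p.1.2 ∧ T.toOpens ≤ W}
  obtain ⟨t, ht, -⟩ := TopCat.Sheaf.existsUnique_gluing' X.sheaf (fun i : ι => i.1.toOpens) (W ⊓ p.1.2.toOpens)
    (fun i => homOfLE (le_inf i.2.2 (AffineZariskiSite.toOpens_mono i.2.1)))
    (fun q hq => by
      obtain ⟨T, hT, hTW, hqT⟩ := exists_cover hq
      exact Opens.mem_iSup.2 ⟨⟨T, hT, hTW⟩, hqT⟩)
    (fun i => d.D (i.2.1.trans p.2) (rs i.2.2 s) - d.D i.2.1 (rs i.2.2 s))
    (fun i j => DefGlueLib.eq_of_locally fun q hq => by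
      obtain ⟨T, hTi, hTj, hqT⟩ := DefGlueLib.exists_common i.1 j.1 hq
      refine ⟨T.toOpens, le_inf (AffineZariskiSite.toOpens_mono hTi) (AffineZariskiSite.toOpens_mono hTj), hqT, ?_⟩
      have key : ∀ (i : ι) (hi : T ≤ i.1),
          rs (AffineZariskiSite.toOpens_mono hi) (d.D (i.2.1.trans p.2) (rs i.2.2 s) - d.D i.2.1 (rs i.2.2 s)) =
            d.D ((hi.trans i.2.1).trans p.2) (rs ((AffineZariskiSite.toOpens_mono hi).trans i.2.2) s) -
              d.D (hi.trans i.2.1) (rs ((AffineZariskiSite.toOpens_mono hi).trans i.2.2) s) := fun i hi => by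
        rw [map_sub, d.cocy (i.2.1.trans p.2) hi, d.cocy i.2.1 hi, rs_rs, sub_sub_sub_cancel_right]
      exact (rs_rs inf_le_left _ _).trans ((key i hTi).trans ((key j hTj).symm.trans (rs_rs inf_le_right _ _).symm)))
  exact ⟨t, fun T h hT => ht ⟨T, h, hT⟩⟩

/-- The value. -/
def cval (W : X.Opens) (p : Pr X) (s : Γ(X, W)) : Γ(X, W ⊓ p.1.2.toOpens) := (d.exists_val W p s).choose

theorem cval_spec (W : X.Opens) (p : Pr X) (s : Γ(X, W)) : d.Val W p s (d.cval W p s) :=
  (d.exists_val W p s).choose_spec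

theorem cval_eq {W : X.Opens} {p : Pr X} {s : Γ(X, W)} {t : Γ(X, W ⊓ p.1.2.toOpens)} (h : d.Val W p s t) :
    d.cval W p s = t :=
  d.val_unique (d.cval_spec W p s) h

theorem cval_res {W W' : X.Opens} (h : W' ≤ W) (p : Pr X) (s : Γ(X, W)) :
    d.cval W' p (rs h s) = rs (inf_le_inf_right _ h) (d.cval W p s) :=
  d.cval_eq fun T hT hTW => by rw [rs_rs, rs_rs]; exact d.cval_spec W p s T hT (hTW.trans h)

theorem isCocy_cval (W : X.Opens) (s : Γ(X, W)) :
    IsCocy X (ofFam fun p : Pr X => sec (d.cval W p s) : Γ(P1 X, W)) := fun U V V' h h' =>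
  show d.cval W ⟨(U, V'), h'.trans h⟩ s = rs _ (d.cval W ⟨(U, V), h⟩ s) + d.cval W ⟨(V, V'), h'⟩ s from
  d.cval_eq fun T hT hTW => by
    rw [map_add, rs_rs, d.cval_spec W ⟨(U, V), h⟩ s T (hT.trans h') hTW, d.cval_spec W ⟨(V, V'), h'⟩ s T hT hTW]
    abel

/-- The derivation into cocycles. -/
def toDer : OmegaSh.Der x₀ (Z1 X) where
  d {W} := AddMonoidHom.mk' (fun s => (⟨ofFam fun p : Pr X => sec (d.cval W.unop p s), d.isCocy_cval W.unop s⟩ :
      (DefTan29.cocy X).mem W.unop)) fun a b => Subtype.ext (funext fun p => d.cval_eq fun T hT hTW => by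
    show rs _ (d.cval W.unop p a + d.cval W.unop p b) = _
    rw [map_add, d.cval_spec W.unop p a T hT hTW, d.cval_spec W.unop p b T hT hTW, map_add, map_add, map_add,
      add_sub_add_comm])
  d_mul {W} a b := Subtype.ext (funext fun p => d.cval_eq fun T hT hTW => by
    show rs _ (rs inf_le_left a * d.cval W.unop p b + rs inf_le_left b * d.cval W.unop p a) = _
    rw [map_add, map_mul, map_mul, d.cval_spec W.unop p a T hT hTW, d.cval_spec W.unop p b T hT hTW, rs_rs, rs_rs,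
      map_mul (rs hTW), d.mul, d.mul]
    ring)
  d_map {_ _} i s := Subtype.ext (funext fun p => d.cval_res i.unop.le p s)
  d_app {V} s := Subtype.ext (funext fun p => d.cval_eq fun T hT hTW => by
    by_cases hV : V.unop = ⊤
    · obtain ⟨V⟩ := V
      subst hV
      obtain ⟨c, rfl⟩ := (ConcreteCategory.bijective_of_isIso (Scheme.ΓSpecIso (CommRingCat.of k)).inv).2 s
      refine (map_zero _).trans ?_
      have e : rs hTW ((x₀).app ⊤ ((Scheme.ΓSpecIso (CommRingCat.of k)).inv c)) = str x₀ T c := rfl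
      refine Eq.trans ?_ (congrArg₂ (· - ·) (congrArg (d.D _) e) (congrArg (d.D _) e)).symm
      rw [d.const, d.const, sub_zero]
    · have hb : V.unop = ⊥ := by
        refine Opens.ext (Set.eq_empty_iff_forall_notMem.2 fun q hq => hV ?_)
        exact top_le_iff.1 fun r _ => (Subsingleton.elim q r) ▸ hq
      have he : T.toOpens = ⊥ := le_bot_iff.1 (hTW.trans (show (x₀) ⁻¹ᵁ V.unop ≤ ⊥ by rw [hb]; exact le_rfl))
      have : Subsingleton Γ(X, T.toOpens) := CommRingCat.subsingleton_of_isTerminal (X.sheaf.isTerminalOfEqEmpty he)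
      exact Subsingleton.elim _ _)

theorem toDer_app_δ :
    ∃ α : Omega.sheaf x₀ ⟶ Z1 X, ∀ {U V : AffineZariskiSite X} (h : V ≤ U) a, δ α h a = d.D h a := by
  obtain ⟨α, hα, -⟩ := OmegaUniv.isUniversal_dOmega x₀ _ d.toDer
  refine ⟨α, fun {U V} h a => ?_⟩
  rw [δ_apply]
  have h1 : val α V.toOpens ⟨(U, V), h⟩ a = d.cval V.toOpens ⟨(U, V), h⟩ a :=
    congrArg (fun m => fn (toFam (zval X m) ⟨(U, V), h⟩))
      (PresheafOfModules.Derivation.congr_d hα (X := op V.toOpens) a)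
  rw [h1, d.cval_spec V.toOpens ⟨(U, V), h⟩ a V le_rfl le_rfl, d.self, sub_zero]
  exact congrArg (d.D h) (resR_self a)

end CData

end Groth.Agent.DefTan29
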