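import Groth.Agent.DefTan29.ExtClass

/-!
Coboundary data: derivations on the pieces whose differences are a given cocycle.
-/

universe u

open CategoryTheory CategoryTheory.Limits AlgebraicGeometry TopologicalSpace Opposite Abelian

set_option backward.isDefEq.respectTransparency false
set_option backward.isDefEq.respectTransparency.types false

noncomputable section

namespace Groth.Agent.DefTan29

open Groth.Agent.AModX Groth.Agent.DefGlueLib Scheme

variable {k : Type u} [Field k] {X : Scheme.{u}} [X.Over (Spec (CommRingCat.of k))] [QuasiSeparated (xk k X)]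

/-- Derivations on the pieces with differences `α`. -/
structure Bd (α : Omega.sheaf (xk k X) ⟶ Z1 X) : Type u where
  /-- the derivations -/
  D : ∀ U : AffineZariskiSite X, Γ(X, U.toOpens) →+ Γ(X, U.toOpens)
  mul : ∀ U a b, D U (a * b) = a * D U b + b * D U a
  const : ∀ U c, D U (str (xk k X) U c) = 0
  rel : ∀ {U V : AffineZariskiSite X} (h : V ≤ U) a,
    δ α h (rs (AffineZariskiSite.toOpens_mono h) a) =
      rs (AffineZariskiSite.toOpens_mono h) (D U a) - D V (rs (AffineZariskiSite.toOpens_mono h) a)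

theorem δ_sub (α β : Omega.sheaf (xk k X) ⟶ Z1 X) {U V : AffineZariskiSite X} (h : V ≤ U) (a : Γ(X, V.toOpens)) :
    δ (α - β) h a = δ α h a - δ β h a := by
  rw [eq_sub_iff_add_eq, ← δ_add, sub_add_cancel]

theorem δ_zero {U V : AffineZariskiSite X} (h : V ≤ U) (a : Γ(X, V.toOpens)) :
    δ (0 : Omega.sheaf (xk k X) ⟶ Z1 X) h a = 0 := by
  rw [← sub_self (0 : Omega.sheaf (xk k X) ⟶ Z1 X), δ_sub, sub_self]

/-- The component of a map to families at a piece, on a function. -/
def pval (φ : Omega.sheaf (xk k X) ⟶ P0 X) (W : X.Opens) (U : AffineZariskiSite X) (s : Γ(X, W)) :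
    Γ(X, W ⊓ U.toOpens) :=
  fn (at0 (φ.app W ((OmegaSh.dOmega (xk k X)).app W s)) U)

theorem pval_res (φ : Omega.sheaf (xk k X) ⟶ P0 X) {W W' : X.Opens} (h : W' ≤ W) (U : AffineZariskiSite X)
    (s : Γ(X, W)) : pval φ W' U (rs h s) = rs (inf_le_inf_right _ h) (pval φ W U s) := by
  have h1 : (OmegaSh.dOmega (xk k X)).app W' (rs h s) = res _ h ((OmegaSh.dOmega (xk k X)).app W s) :=
    (OmegaSh.dOmega (xk k X)).d_map (homOfLE h).op s
  have h2 := congrArg (fun m => at0 m U) (app_res φ h ((OmegaSh.dOmega (xk k X)).app W s))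
  show fn (at0 (φ.app W' ((OmegaSh.dOmega (xk k X)).app W' (rs h s))) U) = _
  rw [h1, h2]
  rfl

theorem pval_mul (φ : Omega.sheaf (xk k X) ⟶ P0 X) (W : X.Opens) (U : AffineZariskiSite X) (s t : Γ(X, W)) :
    pval φ W U (s * t) = rs inf_le_left s * pval φ W U t + rs inf_le_left t * pval φ W U s := by
  show fn (at0 (φ.app W ((OmegaSh.dOmega (xk k X)).app W (s * t))) U) = _
  rw [show (OmegaSh.dOmega (xk k X)).app W (s * t) =
    s • (OmegaSh.dOmega (xk k X)).app W t + t • (OmegaSh.dOmega (xk k X)).app W s from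
      (OmegaSh.dOmega (xk k X)).d_mul (X := op W) s t,
    map_add, Scheme.Modules.Hom.app_smul, Scheme.Modules.Hom.app_smul]
  rfl

theorem pval_const (φ : Omega.sheaf (xk k X) ⟶ P0 X) (U T : AffineZariskiSite X) (c : k) :
    pval φ T.toOpens U (str (xk k X) T c) = 0 := by
  have h0 : pval φ ⊤ U ((xk k X).app ⊤ ((Scheme.ΓSpecIso (CommRingCat.of k)).inv c)) = 0 := by
    show fn (at0 (φ.app ⊤ ((OmegaSh.dOmega (xk k X)).app ⊤ _)) U) = 0
    rw [show (OmegaSh.dOmega (xk k X)).app ⊤ ((xk k X).app ⊤ ((Scheme.ΓSpecIso (CommRingCat.of k)).inv c)) = 0 from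
      (OmegaSh.dOmega (xk k X)).d_app (X := op ⊤) ((Scheme.ΓSpecIso (CommRingCat.of k)).inv c), map_zero]
    rfl
  exact (pval_res φ le_top U _).trans ((congrArg (rs _) h0).trans (map_zero _))

theorem δ_comp_coBZ (φ : Omega.sheaf (xk k X) ⟶ P0 X) {U V : AffineZariskiSite X} (h : V ≤ U) (a : Γ(X, V.toOpens)) :
    δ (φ ≫ coBZ X) h a = rs (le_inf le_rfl (AffineZariskiSite.toOpens_mono h)) (pval φ V.toOpens U a) -
      rs (le_inf le_rfl le_rfl) (pval φ V.toOpens V a) := by
  rw [δ_apply]
  show rs _ (rs (inf_le_inf_left _ (AffineZariskiSite.toOpens_mono h)) (pval φ V.toOpens U a) -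
    pval φ V.toOpens V a) = _
  rw [map_sub, rs_rs]

/-- The derivations of a map to families. -/
def bdOfHom (φ : Omega.sheaf (xk k X) ⟶ P0 X) : Bd (φ ≫ coBZ X) where
  D U := AddMonoidHom.mk' (fun a => rs (le_inf le_rfl le_rfl) (pval φ U.toOpens U a)) fun a b => by
    rw [← map_add]
    refine congrArg (rs _) ?_
    show fn (at0 (φ.app _ ((OmegaSh.dOmega (xk k X)).app _ (a + b))) _) = _
    rw [map_add, map_add]
    rfl
  mul U a b := by
    show rs _ (pval φ U.toOpens U (a * b)) = _
    rw [pval_mul, map_add, map_mul, map_mul, rs_rs, rs_rs]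
    have e : ∀ c : Γ(X, U.toOpens), rs (le_refl U.toOpens) c = c := fun c => resR_self c
    rw [e, e]
    rfl
  const U c := by
    show rs _ (pval φ U.toOpens U (str (xk k X) U c)) = 0
    rw [pval_const, map_zero]
  rel {U V} h a := by
    rw [δ_comp_coBZ]
    show _ = rs _ (rs _ (pval φ U.toOpens U a)) - rs _ (pval φ V.toOpens V _)
    rw [rs_rs, pval_res φ (AffineZariskiSite.toOpens_mono h) U, rs_rs]

theorem exists_hom_of_bd {α : Omega.sheaf (xk k X) ⟶ Z1 X} (d : Bd α) :
    ∃ φ : Omega.sheaf (xk k X) ⟶ P0 X, φ ≫ coBZ X = α := by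
  let M : MData k (Coh.structureModule X) :=
    { D := fun {U T} h => AddMonoidHom.mk' (fun a => sec (δ α h a + d.D T a)) fun a b => by
        rw [map_add, map_add, add_add_add_comm]
        rfl
      mul := fun {U T} h a b => by
        show δ α h (a * b) + d.D T (a * b) = a * (δ α h b + d.D T b) + b * (δ α h a + d.D T a)
        rw [δ_mul, d.mul]
        ring
      const := fun {U T} h c => by
        show δ α h (str (xk k X) T c) + d.D T (str (xk k X) T c) = 0
        rw [δ_const, d.const, add_zero]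
      res := fun {U T T'} h h' a => by
        show rs (AffineZariskiSite.toOpens_mono h') (δ α h a + d.D T a) =
          δ α (h'.trans h) (rs (AffineZariskiSite.toOpens_mono h') a) +
            d.D T' (rs (AffineZariskiSite.toOpens_mono h') a)
        rw [map_add, δ_cocy α h h', d.rel h']
        abel }
  obtain ⟨σ, hσ⟩ := M.exists_hom
  refine ⟨σ, δ_ext fun {U V} h a => ?_⟩
  have e : rs (le_refl V.toOpens) a = a := resR_self a
  have h1 : rs (le_inf le_rfl (AffineZariskiSite.toOpens_mono h)) (pval σ V.toOpens U a) = δ α h a + d.D V a := by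
    refine (congrArg fn (hσ V.toOpens a U V h le_rfl)).trans ?_
    show δ α h (rs _ a) + d.D V (rs _ a) = _
    rw [e]
  have h2 : rs (le_inf le_rfl le_rfl) (pval σ V.toOpens V a) = δ α (le_refl V) a + d.D V a := by
    refine (congrArg fn (hσ V.toOpens a V V le_rfl le_rfl)).trans ?_
    show δ α (le_refl V) (rs _ a) + d.D V (rs _ a) = _
    rw [e]
  have h3 : δ α (le_refl V) a = 0 := by
    have h := δ_cocy α (le_refl V) (le_refl V) a
    rw [e] at h
    have e' : rs (le_refl V.toOpens) (δ α (le_refl V) a) = δ α (le_refl V) a := resR_self _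
    rw [e', sub_self] at h
    exact h
  rw [δ_comp_coBZ, h1, h2, h3, zero_add, add_sub_cancel_right]

theorem kappa_eq_zero_iff_bd [HasExt.{u} X.Modules] (α : Omega.sheaf (xk k X) ⟶ Z1 X) :
    kappa k X α = 0 ↔ Nonempty (Bd α) := by
  rw [kappa_eq_zero_iff]
  constructor
  · rintro ⟨φ, rfl⟩
    exact ⟨bdOfHom φ⟩
  · rintro ⟨d⟩
    exact exists_hom_of_bd d

end Groth.Agent.DefTan29
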