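import Groth.Agent.DefTan29.Tw
import Groth.Agent.DefTan29.Bd

/-!
Twists classify families with a given reduction.
-/

universe u

open CategoryTheory CategoryTheory.Limits AlgebraicGeometry TopologicalSpace Opposite IsLocalRing

set_option backward.isDefEq.respectTransparency false
set_option backward.isDefEq.respectTransparency.types false

noncomputable section

namespace Groth.Agent.DefTan29

open Groth.Agent.AModX Groth.Agent.DefGlueLib Scheme ArtFun

variable {k : Type u} [Field k] {X : Scheme.{u}} [X.Over (Spec (CommRingCat.of k))] [QuasiSeparated (xk k X)]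

variable {C C' : Art k k} (D : PDef (xk k X) C')

section Ins

variable {r : ℕ} (ys : Fin r → C') (hys : ∀ j, Small (ys j)) {U : AffineZariskiSite X}
  (e : Fin r → (Γ(X, U.toOpens) →+ Γ(X, U.toOpens)))
  (he : ∀ j a b, e j (a * b) = a * e j b + b * e j a)

include hys he in
theorem insSum_mul (z z' : D.R.obj (op U)) :
    ∑ j, ins D (ys j) U (e j ((D.qU U).hom (z * z'))) =
      z * ∑ j, ins D (ys j) U (e j ((D.qU U).hom z')) + z' * ∑ j, ins D (ys j) U (e j ((D.qU U).hom z)) := by
  rw [Finset.mul_sum, Finset.mul_sum, ← Finset.sum_add_distrib]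
  refine Finset.sum_congr rfl fun j _ => ?_
  rw [map_mul, he, mul_ins (hys j), mul_ins (hys j), ← ins_add (hys j)]

/-- The automorphism of a piece given by derivations. -/
def insHom : D.R.obj (op U) →+* D.R.obj (op U) where
  toFun z := z + ∑ j, ins D (ys j) U (e j ((D.qU U).hom z))
  map_zero' := by
    rw [zero_add]
    exact Finset.sum_eq_zero fun j _ => by rw [map_zero, map_zero, ins_zero (hys j)]
  map_one' := add_eq_left.2 (Finset.sum_eq_zero fun j _ => by
    have h := he j 1 1
    rw [mul_one, one_mul, left_eq_add] at h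
    rw [map_one, h, ins_zero (hys j)])
  map_add' z z' := by
    rw [show ∑ j, ins D (ys j) U (e j ((D.qU U).hom (z + z'))) =
        ∑ j, ins D (ys j) U (e j ((D.qU U).hom z)) + ∑ j, ins D (ys j) U (e j ((D.qU U).hom z')) by
      rw [← Finset.sum_add_distrib]
      exact Finset.sum_congr rfl fun j _ => by rw [map_add, map_add, ins_add (hys j)]]
    abel
  map_mul' z z' := by
    rw [insSum_mul D ys hys e he z z']
    have h0 : (∑ j, ins D (ys j) U (e j ((D.qU U).hom z))) * ∑ j, ins D (ys j) U (e j ((D.qU U).hom z')) = 0 := by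
      rw [Finset.sum_mul_sum]
      exact Finset.sum_eq_zero fun i _ => Finset.sum_eq_zero fun j _ => ins_mul_ins (hys i) (hys j) _ _
    linear_combination (-1 : D.R.obj (op U)) * h0

theorem insHom_apply (z : D.R.obj (op U)) :
    insHom D ys hys e he z = z + ∑ j, ins D (ys j) U (e j ((D.qU U).hom z)) := rfl

include hys in
theorem q_insSum (z : D.R.obj (op U)) : (D.qU U).hom (∑ j, ins D (ys j) U (e j ((D.qU U).hom z))) = 0 := by
  rw [map_sum]
  exact Finset.sum_eq_zero fun j _ => q_ins D (hys j) U _

end Ins

theorem phomOfBd_nat {r : ℕ} (ys : Fin r → C') (hys : ∀ j, Small (ys j))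
    {α β : Fin r → (Omega.sheaf (xk k X) ⟶ Z1 X)} (d : ∀ j, Bd (α j - β j)) {U V : AffineZariskiSite X}
    (f : op U ⟶ op V) (z : D.R.obj (op U)) :
    insHom D ys hys (fun j => (d j).D V) (fun j => (d j).mul V) (twHom D ys hys α f.unop.le ((D.R.map f).hom z)) =
      twHom D ys hys β f.unop.le ((D.R.map f).hom
        (insHom D ys hys (fun j => (d j).D U) (fun j => (d j).mul U) z)) := by
  set w := (D.R.map f).hom z with hw
  have hq : (D.qU V).hom w = rs (AffineZariskiSite.toOpens_mono f.unop.le) ((D.qU U).hom z) := D.q_map f z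
  have hi : (D.R.map f).hom (∑ j, ins D (ys j) U ((d j).D U ((D.qU U).hom z))) =
      ∑ j, ins D (ys j) V (rs (AffineZariskiSite.toOpens_mono f.unop.le) ((d j).D U ((D.qU U).hom z))) := by
    rw [map_sum]
    exact Finset.sum_congr rfl fun j _ => map_ins (hys j) f _
  have h1 : (D.qU V).hom (corr D ys α f.unop.le w) = 0 := q_corr D ys hys α _ _
  have h2 : (D.qU V).hom (w + ∑ j, ins D (ys j) V (rs (AffineZariskiSite.toOpens_mono f.unop.le)
      ((d j).D U ((D.qU U).hom z)))) = (D.qU V).hom w := by
    exact (map_add _ _ _).trans (add_eq_left.2 ((map_sum _ _ _).trans (Finset.sum_eq_zero fun j _ => q_ins D (hys j) V _)))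
  rw [insHom_apply, insHom_apply, twHom_apply, twHom_apply, map_add, map_add, ← hw, h1, add_zero, hi]
  show _ = _ + ∑ j, ins D (ys j) V (δ (β j) f.unop.le ((D.qU V).hom _))
  rw [h2, add_assoc, add_assoc, corr, ← Finset.sum_add_distrib, ← Finset.sum_add_distrib]
  refine congrArg (w + ·) (Finset.sum_congr rfl fun j _ => ?_)
  show ins D (ys j) V (δ (α j) f.unop.le ((D.qU V).hom w)) + _ = _
  rw [← ins_add (hys j), ← ins_add (hys j), hq]
  refine congrArg (ins D (ys j) V) ?_
  have hr := (d j).rel f.unop.le ((D.qU U).hom z)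
  rw [δ_sub, sub_eq_iff_eq_add] at hr
  rw [hr]
  abel

/-- Cohomologous cocycles give isomorphic twists. -/
def phomOfBd {r : ℕ} (ys : Fin r → C') (hys : ∀ j, Small (ys j))
    {α β : Fin r → (Omega.sheaf (xk k X) ⟶ Z1 X)} (d : ∀ j, Bd (α j - β j)) :
    PHom (𝟙 C') (tw D ys hys α) (tw D ys hys β) where
  app :=
    { app := fun U => CommRingCat.ofHom
        (insHom D ys hys (fun j => (d j).D U.unop) (fun j => (d j).mul U.unop) : D.R.obj U →+* D.R.obj U)
      naturality := fun U V f => CommRingCat.hom_ext (RingHom.ext fun z => by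
        induction U using Opposite.rec with
        | op U =>
        induction V using Opposite.rec with
        | op V => exact phomOfBd_nat D ys hys d f z) }
  comm U c := by
    induction U using Opposite.rec with
    | op U =>
      show insHom D ys hys (fun j => (d j).D U) (fun j => (d j).mul U) (D.a (op U) c) = D.a (op U) c
      refine (insHom_apply D ys hys _ _ _).trans (add_eq_left.2 (Finset.sum_eq_zero fun j _ => ?_))
      rw [show (D.qU U).hom (D.a (op U) c) = str (xk k X) U (C'.res c) from (D.isDef (op U)).comm c, (d j).const,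
        ins_zero (hys j)]
  q_app := NatTrans.ext (funext fun U => CommRingCat.hom_ext (RingHom.ext fun z => by
    induction U using Opposite.rec with
    | op U =>
      show (D.qU U).hom (insHom D ys hys (fun j => (d j).D U) (fun j => (d j).mul U) z) = (D.qU U).hom z
      rw [insHom_apply, map_add, q_insSum D ys hys, add_zero]))

variable {D} {p : C' ⟶ C} (F : Fr p)

theorem pair_sum (U : AffineZariskiSite X) {ι : Type} (S : Finset ι) (j : Fin F.r) (w : ι → D.R.obj (op U))
    (hw : ∀ i ∈ S, w i ∈ F.J.map (D.a (op U))) :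
    pair (D.isDef (op U)) (F.isFun j) (∑ i ∈ S, w i) = ∑ i ∈ S, pair (D.isDef (op U)) (F.isFun j) (w i) := by
  classical
  induction S using Finset.induction with
  | empty => rw [Finset.sum_empty, Finset.sum_empty, pair_zero]
  | insert i S hi ih =>
    rw [Finset.sum_insert hi, Finset.sum_insert hi,
      pair_add _ _ (hw i (Finset.mem_insert_self _ _)) (Ideal.sum_mem _ fun x hx => hw x (Finset.mem_insert_of_mem hx)),
      ih fun x hx => hw x (Finset.mem_insert_of_mem hx)]

theorem ins_mem (U : AffineZariskiSite X) (i : Fin F.r) (b : Γ(X, U.toOpens)) :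
    ins D (F.ys i) U b ∈ F.J.map (D.a (op U)) :=
  Ideal.mul_mem_right _ _ (Ideal.mem_map_of_mem _ (F.ys_mem i))

theorem pair_insSum (U : AffineZariskiSite X) (j : Fin F.r) (b : Fin F.r → Γ(X, U.toOpens)) :
    pair (D.isDef (op U)) (F.isFun j) (∑ i, ins D (F.ys i) U (b i)) = b j := by
  rw [pair_sum F U Finset.univ j (fun i => ins D (F.ys i) U (b i)) fun i _ => ins_mem F U i _]
  rw [Finset.sum_eq_single j]
  · rw [ins, pair_gen _ _ (F.ys_mem j), F.l_ys, if_pos rfl, map_one, one_mul]
    exact (map_qU_surjective D U (b j)).choose_spec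
  · intro i _ hij
    rw [ins, pair_gen _ _ (F.ys_mem i), F.l_ys, if_neg hij, map_zero, zero_mul]
  · exact fun h => (h (Finset.mem_univ j)).elim

/-- The derivations of a morphism of twists congruent to the identity. -/
def bdOfPHom {α β : Fin F.r → (Omega.sheaf (xk k X) ⟶ Z1 X)}
    (φ : PHom (𝟙 C') (tw D F.ys F.small α) (tw D F.ys F.small β))
    (hφ : ∀ (U : AffineZariskiSite X) (z : D.R.obj (op U)),
      (show D.R.obj (op U) from (φ.app.app (op U)).hom z) - z ∈ F.J.map (D.a (op U))) (j : Fin F.r) :
    Bd (α j - β j) :=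
  let f := fun U : AffineZariskiSite X =>
    (show D.R.obj (op U) →+* D.R.obj (op U) from (φ.app.app (op U)).hom)
  have hc : ∀ U : AffineZariskiSite X, Close (a := D.a (op U)) (q := (D.qU U).hom) (a' := D.a (op U))
      (q' := (D.qU U).hom) F (f U) (RingHom.id _) := fun U =>
    ⟨φ.comm (op U), fun _ => rfl, fun _ => rfl, hφ U⟩
  let dd := fun U : AffineZariskiSite X => dif (D.isDef (op U)) (D.isDef (op U)) F (f U) (RingHom.id _) (hc U) j
  { D := dd
    mul := fun U => dif_mul (D.isDef (op U)) (D.isDef (op U)) F (f U) (RingHom.id _) (hc U) j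
    const := fun U => dif_const (D.isDef (op U)) (D.isDef (op U)) F (f U) (RingHom.id _) (hc U) j
    rel := fun {U V} h b => by
      obtain ⟨z, rfl⟩ := map_qU_surjective D U b
      let i : op U ⟶ op V := (homOfLE h).op
      let w := (D.R.map i).hom z
      have hqw : (D.qU V).hom w = rs (AffineZariskiSite.toOpens_mono h) ((D.qU U).hom z) := D.q_map i z
      have hqf : (D.qU V).hom ((D.R.map i).hom (f U z)) = rs (AffineZariskiSite.toOpens_mono h) ((D.qU U).hom z) :=
        (D.q_map i _).trans (congrArg _ (phom_q φ (op U) z))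
      have hfix : f V (corr D F.ys α h w) = corr D F.ys α h w := by
        rw [corr, map_sum]
        refine Finset.sum_congr rfl fun i _ => ?_
        obtain ⟨z', hz'⟩ := map_qU_surjective D V (δ (α i) h ((D.q.app (op V)).hom w))
        rw [ins_eq D (F.small i) z' hz', map_mul, (hc V).f_a]
        exact (ins_eq D (F.small i) (f V z') ((phom_q φ (op V) z').trans hz')).symm.trans
          (ins_eq D (F.small i) z' hz')
      have hn : f V (w + corr D F.ys α h w) = (D.R.map i).hom (f U z) + corr D F.ys β h ((D.R.map i).hom (f U z)) :=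
        ConcreteCategory.congr_hom (φ.app.naturality i) z
      rw [map_add, hfix, show corr D F.ys β h ((D.R.map i).hom (f U z)) = corr D F.ys β h w by
        show ∑ j, ins D (F.ys j) V (δ (β j) h ((D.qU V).hom _)) = ∑ j, ins D (F.ys j) V (δ (β j) h ((D.qU V).hom w))
        rw [hqf, hqw]] at hn
      have hn' : (f V w - w) + corr D F.ys α h w = (D.R.map i).hom (f U z - z) + corr D F.ys β h w := by
        rw [map_sub]
        linear_combination hn
      have hp := congrArg (pair (D.isDef (op V)) (F.isFun j)) hn'
      have hmap : (D.R.map i).hom (f U z - z) ∈ F.J.map (D.a (op V)) := by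
        have h1 := Ideal.mem_map_of_mem (D.R.map i).hom ((hc U).mem z)
        rwa [Ideal.map_map, show (D.R.map i).hom.comp (D.a (op U)) = D.a (op V) from RingHom.ext (D.a_map i)] at h1
      have hcor : ∀ γ, corr D F.ys γ h w ∈ F.J.map (D.a (op V)) := fun γ =>
        Ideal.sum_mem _ fun i _ => ins_mem F V i _
      rw [pair_add _ _ (show f V w - w ∈ F.J.map (D.a (op V)) from hφ V w) (hcor α), pair_add _ _ hmap (hcor β), corr, corr,
        pair_insSum F V j, pair_insSum F V j] at hp
      have e1 : dd V ((D.qU V).hom w) = pair (D.isDef (op V)) (F.isFun j) (f V w - w) :=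
        dif_apply (D.isDef (op V)) (D.isDef (op V)) F (f V) (RingHom.id _) (hc V) j w
      have e2 : rs (AffineZariskiSite.toOpens_mono h) (dd U ((D.qU U).hom z)) =
          pair (D.isDef (op V)) (F.isFun j) ((D.R.map i).hom (f U z - z)) := by
        refine (congrArg _ (dif_apply (D.isDef (op U)) (D.isDef (op U)) F (f U) (RingHom.id _) (hc U) j z)).trans ?_
        exact pair_natural (D.isDef (op U)) (F.isFun j) (D.isDef (op V)) _ _ (D.a_map i) (D.q_map i)
          (fun t => DFunLike.congr_fun (str_res (xk k X) h) t) ((hc U).mem z)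
      rw [← e1, ← e2] at hp
      show δ (α j - β j) h (rs _ ((D.qU U).hom z)) = rs _ (dd U ((D.qU U).hom z)) - dd V (rs _ ((D.qU U).hom z))
      rw [δ_sub, ← hqw]
      linear_combination hp }

/-- The reduction of a twist. -/
def twPi {D₀ : PDef (xk k X) C} (π : PHom p D D₀) (α : Fin F.r → (Omega.sheaf (xk k X) ⟶ Z1 X)) :
    PHom p (tw D F.ys F.small α) D₀ where
  app :=
    { app := fun U => π.app.app U
      naturality := fun U V f => CommRingCat.hom_ext (RingHom.ext fun z => by
        induction U using Opposite.rec with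
        | op U =>
        induction V using Opposite.rec with
        | op V =>
          show (π.app.app (op V)).hom (twHom D F.ys F.small α f.unop.le ((D.R.map f).hom z)) = _
          rw [twHom_apply, map_add, show (π.app.app (op V)).hom (corr D F.ys α f.unop.le ((D.R.map f).hom z)) = 0 from ?_,
            add_zero]
          · exact ConcreteCategory.congr_hom (π.app.naturality f) z
          · rw [corr, map_sum]
            refine Finset.sum_eq_zero fun j _ => (map_mul _ _ _).trans (mul_eq_zero_of_left ?_ _)
            exact (π.comm (op V) (F.ys j)).trans ((congrArg (D₀.a (op V)) (F.map_ys j)).trans (map_zero _))) }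
  comm := π.comm
  q_app := NatTrans.ext (funext fun U => CommRingCat.hom_ext (RingHom.ext fun z => phom_q π U z))

end Groth.Agent.DefTan29
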