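import Groth.Agent.DefGlueLib.Auto
import Mathlib.RingTheory.TensorProduct.Free
import Mathlib.RingTheory.Smooth.Basic

/-!
Algebra of deformations of smooth algebras along square-zero ideals killed by the maximal ideal.
-/

universe u

open CategoryTheory IsLocalRing ArtFun
open scoped TensorProduct

set_option backward.isDefEq.respectTransparency false
set_option backward.isDefEq.respectTransparency.types false

noncomputable section

namespace Groth.Agent.DefTan29

open Groth.Agent.DefGlueLib

variable {k : Type u} [Field k]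

/-- An element killed by the maximal ideal and lying in it. -/
def Small {C : Art k k} (y : C) : Prop := y ∈ maximalIdeal C ∧ ∀ m ∈ maximalIdeal C, m * y = 0

/-- A frame of the kernel of a morphism, with coordinates. -/
structure Fr {C C' : Art k k} (p : C' ⟶ C) : Type u where
  /-- the size -/
  r : ℕ
  /-- the vectors -/
  ys : Fin r → C'
  small : ∀ j, Small (ys j)
  map_ys : ∀ j, p (ys j) = 0
  /-- the coordinates -/
  l : Fin r → C' →ₗ[k] k
  l_ys : ∀ i j, l j (ys i) = if i = j then 1 else 0
  expand : ∀ y, p y = 0 → y = ∑ j, algebraMap k C' (l j y) * ys j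

namespace Fr

variable {C C' : Art k k} {p : C' ⟶ C} (F : Fr p)

/-- The kernel. -/
abbrev J (_F : Fr p) : Ideal C' := RingHom.ker p.toAlgHom

theorem mul_eq_zero {m y : C'} (hm : m ∈ maximalIdeal C') (hy : y ∈ F.J) : m * y = 0 := by
  rw [F.expand y hy, Finset.mul_sum]
  exact Finset.sum_eq_zero fun j _ => by rw [mul_left_comm, (F.small j).2 m hm, mul_zero]

theorem isFun (j : Fin F.r) : IsFun F.J (F.l j) := fun m hm y hy => by rw [F.mul_eq_zero hm hy, map_zero]

theorem mem_maximalIdeal {y : C'} (hy : y ∈ F.J) : y ∈ maximalIdeal C' := by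
  rw [F.expand y hy]
  exact Ideal.sum_mem _ fun j _ => Ideal.mul_mem_left _ _ (F.small j).1

theorem ys_mem (j : Fin F.r) : F.ys j ∈ F.J := F.map_ys j

end Fr

variable {C C' : Art k k} {p : C' ⟶ C} {R R' B₀ : Type u} [CommRing R] [CommRing R'] [CommRing B₀]
  {c : k →+* B₀} {a : C' →+* R} {q : R →+* B₀} {a' : C' →+* R'} {q' : R' →+* B₀}

/-- Lifts of a basis generate. -/
theorem ext_of_gen (h : IsDef C' c a q) (s : B₀ →+* R) (hs : ∀ b, q (s b) = b) {S : Type u} [CommRing S]
    (f g : R →+* S) (ha : ∀ y, f (a y) = g (a y)) (hb : ∀ b, f (s b) = g (s b)) : f = g := by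
  obtain ⟨κ, e, he⟩ := h.exists_basis
  have he' : Function.Bijective (comb c (q ∘ fun i => s (q (e i)))) := by
    rwa [show (q ∘ fun i => s (q (e i))) = q ∘ e from funext fun i => hs _]
  refine RingHom.ext fun z => ?_
  obtain ⟨v, rfl⟩ := (h.bijective_comb he').2 z
  simp only [comb, map_finsuppSum]
  exact Finsupp.sum_congr fun i _ => by rw [map_mul, map_mul, ha, hb]

/-- A deformation with a section is a base change. -/
theorem exists_trivHom (h : IsDef C' c a q) (s : B₀ →+* R) (hs : ∀ b, q (s b) = b)
    (hsc : ∀ t, s (c t) = a (algebraMap k C' t)) {S : Type u} [CommRing S] (aS : C' →+* S) (sS : B₀ →+* S)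
    (hsS : ∀ t, sS (c t) = aS (algebraMap k C' t)) :
    ∃ ψ : R →+* S, (∀ y, ψ (a y) = aS y) ∧ ∀ b, ψ (s b) = sS b := by
  classical
  letI := c.toAlgebra
  letI : Algebra k R := (a.comp (algebraMap k C')).toAlgebra
  letI : Algebra k S := (aS.comp (algebraMap k C')).toAlgebra
  let L : C' ⊗[k] B₀ →ₐ[k] R := Algebra.TensorProduct.lift { a with commutes' := fun _ => rfl }
    { s with commutes' := hsc } fun _ _ => Commute.all _ _
  let L' : C' ⊗[k] B₀ →ₐ[k] S := Algebra.TensorProduct.lift { aS with commutes' := fun _ => rfl }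
    { sS with commutes' := hsS } fun _ _ => Commute.all _ _
  have hL : Function.Bijective L := by
    let b := Module.Free.chooseBasis k B₀
    have he : Function.Bijective (comb c (q ∘ fun i => s (b i))) := by
      rw [show (q ∘ fun i => s (b i)) = b from funext fun i => hs _]
      change Function.Bijective (comb (algebraMap k B₀) b)
      rw [funext (comb_eq (A := k) b)]
      exact ⟨b.linearIndependent, LinearMap.range_eq_top.1 (by rw [Finsupp.range_linearCombination, b.span_eq])⟩
    let T := (Algebra.TensorProduct.basis C' b).repr.symm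
    have hT : ∀ v, L (T v) = comb a (fun i => s (b i)) v := fun v => by
      show L ((Algebra.TensorProduct.basis C' b).repr.symm v) = _
      rw [Module.Basis.repr_symm_apply, Finsupp.linearCombination_apply, map_finsuppSum]
      refine Finsupp.sum_congr fun i _ => ?_
      rw [Algebra.TensorProduct.basis_apply, TensorProduct.smul_tmul', smul_eq_mul, mul_one]
      exact Algebra.TensorProduct.lift_tmul _ _ _ _ _
    have h2 := h.bijective_comb he
    rw [← show L ∘ T = comb a fun i => s (b i) from funext hT] at h2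
    exact (Function.Bijective.of_comp_iff L T.bijective).1 h2
  refine ⟨L'.toRingHom.comp (RingEquiv.ofBijective L.toRingHom hL).symm.toRingHom, fun y => ?_, fun b => ?_⟩
  · refine (congrArg L' (hL.1 (a₂ := y ⊗ₜ 1) (((RingEquiv.ofBijective L.toRingHom hL).apply_symm_apply (a y)).trans ?_))).trans ?_
    · refine ((Algebra.TensorProduct.lift_tmul _ _ _ y 1).trans ?_).symm
      show a y * s 1 = a y
      rw [map_one, mul_one]
    · refine (Algebra.TensorProduct.lift_tmul _ _ _ y 1).trans ?_
      show aS y * sS 1 = aS y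
      rw [map_one, mul_one]
  · refine (congrArg L' (hL.1 (a₂ := 1 ⊗ₜ b) (((RingEquiv.ofBijective L.toRingHom hL).apply_symm_apply (s b)).trans ?_))).trans ?_
    · refine ((Algebra.TensorProduct.lift_tmul _ _ _ 1 b).trans ?_).symm
      show a 1 * s b = s b
      rw [map_one, one_mul]
    · refine (Algebra.TensorProduct.lift_tmul _ _ _ 1 b).trans ?_
      show aS 1 * sS b = sS b
      rw [map_one, one_mul]

/-- Lifting along a nilpotent thickening. -/
theorem exists_lift {K B T T₀ : Type u} [CommRing K] [CommRing B] [CommRing T] [CommRing T₀] (e : K →+* B)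
    (he : e.Smooth) (cT : K →+* T) (π : T →+* T₀) (hπ : Function.Surjective π)
    (hn : IsNilpotent (RingHom.ker π)) (f : B →+* T₀) (h : ∀ t, π (cT t) = f (e t)) :
    ∃ s : B →+* T, (∀ b, π (s b) = f b) ∧ ∀ t, s (e t) = cT t := by
  letI := e.toAlgebra
  letI := cT.toAlgebra
  letI : Algebra K T₀ := (π.comp cT).toAlgebra
  have : Algebra.Smooth K B := he
  let π' : T →ₐ[K] T₀ := { π with commutes' := fun _ => rfl }
  let f' : B →ₐ[K] T₀ := { f with commutes' := fun t => (h t).symm }
  let s := Algebra.FormallySmooth.liftOfSurjective f' π' hπ hn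
  exact ⟨s.toRingHom, fun b => Algebra.FormallySmooth.liftOfSurjective_apply _ π' hπ hn b, s.commutes⟩

theorem isNilpotent_ker_q (h : IsDef C' c a q) : IsNilpotent (RingHom.ker q) := by
  obtain ⟨n, hn⟩ := IsArtinianRing.isNilpotent_jacobson_bot (R := C')
  rw [jacobson_eq_maximalIdeal ⊥ bot_ne_top] at hn
  refine ⟨n, le_bot_iff.1 ?_⟩
  refine (Ideal.pow_right_mono h.ker_le n).trans (le_of_eq ?_)
  rw [← Ideal.map_pow, hn, Submodule.zero_eq_bot, Ideal.map_bot]

section Dif

variable (h : IsDef C' c a q) (h' : IsDef C' c a' q') (F : Fr p) (f g : R →+* R')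

/-- Two maps of deformations agreeing modulo the kernel. -/
structure Close : Prop where
  f_a : ∀ y, f (a y) = a' y
  g_a : ∀ y, g (a y) = a' y
  g_q : ∀ z, q' (g z) = q z
  mem : ∀ z, f z - g z ∈ F.J.map a'

include h in
theorem eq_of_q_eq_zero (hc : Close (a := a) (q := q) (a' := a') (q' := q') F f g) {z : R} (hz : q z = 0) :
    f z = g z := by
  refine map_induction (a := a) (I := maximalIdeal C') (P := fun z => f z = g z) ?_ ?_ ?_
    (h.ker_le (RingHom.mem_ker.2 hz))
  · rw [map_zero, map_zero]
  · intro w w' _ _ e e'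
    rw [map_add, map_add, e, e']
  · intro y hy s
    rw [map_mul, map_mul, hc.f_a, hc.g_a, ← sub_eq_zero, ← mul_sub]
    have := Ideal.mul_mem_mul (Ideal.mem_map_of_mem a' hy) (hc.mem s)
    rwa [← Ideal.map_mul, show maximalIdeal C' * F.J = ⊥ from le_bot_iff.1 (Ideal.mul_le.2 fun m hm y hy =>
      Ideal.mem_bot.2 (F.mul_eq_zero hm hy)), Ideal.map_bot, Ideal.mem_bot] at this

include h' in
theorem q_eq_zero_of_mem {w : R'} (hw : w ∈ F.J.map a') : q' w = 0 := by
  refine map_induction (a := a') (I := F.J) (P := fun w => q' w = 0) (map_zero _) ?_ ?_ hw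
  · intro w w' _ _ e e'
    rw [map_add, e, e', add_zero]
  · intro y hy s
    rw [map_mul, h'.comm, (Art.mem_maximalIdeal_iff C' y).1 (F.mem_maximalIdeal hy), map_zero, zero_mul]

variable (hc : Close (a := a) (q := q) (a' := a') (q' := q') F f g)

/-- The coordinate of the difference. -/
def dif (j : Fin F.r) : B₀ →+ B₀ :=
  have wd : ∀ z z', q z = q z' → f z - g z = f z' - g z' := fun z z' e => by
    have := eq_of_q_eq_zero h F f g hc (z := z - z') (by rw [map_sub, e, sub_self])
    rw [map_sub, map_sub, sub_eq_sub_iff_sub_eq_sub] at this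
    exact this
  AddMonoidHom.mk' (fun b => pair h' (F.isFun j) (f (h.surjective b).choose - g (h.surjective b).choose))
    fun b b' => by
      rw [← pair_add h' (F.isFun j) (hc.mem _) (hc.mem _)]
      refine congrArg (pair h' (F.isFun j)) ((wd _ ((h.surjective b).choose + (h.surjective b').choose) ?_).trans ?_)
      · rw [map_add, (h.surjective _).choose_spec, (h.surjective _).choose_spec, (h.surjective _).choose_spec]
      · rw [map_add, map_add, add_sub_add_comm]

theorem dif_apply (j : Fin F.r) (z : R) : dif h h' F f g hc j (q z) = pair h' (F.isFun j) (f z - g z) := by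
  refine congrArg (pair h' (F.isFun j)) ?_
  have := eq_of_q_eq_zero h F f g hc (z := (h.surjective (q z)).choose - z)
    (by rw [map_sub, (h.surjective _).choose_spec, sub_self])
  rw [map_sub, map_sub, sub_eq_sub_iff_sub_eq_sub] at this
  exact this

theorem dif_mul (j : Fin F.r) (b b' : B₀) :
    dif h h' F f g hc j (b * b') = b * dif h h' F f g hc j b' + b' * dif h h' F f g hc j b := by
  obtain ⟨z, rfl⟩ := h.surjective b
  obtain ⟨z', rfl⟩ := h.surjective b'
  rw [← map_mul, dif_apply, dif_apply, dif_apply,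
    show f (z * z') - g (z * z') = f z * (f z' - g z') + g z' * (f z - g z) by rw [map_mul, map_mul]; ring,
    pair_add h' _ (Ideal.mul_mem_left _ _ (hc.mem _)) (Ideal.mul_mem_left _ _ (hc.mem _)),
    pair_smul h' _ _ (hc.mem _), pair_smul h' _ _ (hc.mem _), hc.g_q]
  have : q' (f z) = q z := by
    rw [← hc.g_q z, ← sub_eq_zero, ← map_sub]
    exact q_eq_zero_of_mem h' F (hc.mem z)
  rw [this]

theorem dif_const (j : Fin F.r) (t : k) : dif h h' F f g hc j (c t) = 0 := by
  have e : c t = q (a (algebraMap k C' t)) := by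
    rw [h.comm, C'.res.commutes]
    exact congrArg c rfl
  rw [e, dif_apply, hc.f_a, hc.g_a, sub_self, pair_zero]

/-- The difference is recovered from its coordinates. -/
theorem sub_eq_sum (z : R) (L : Fin F.r → R') (hL : ∀ j, q' (L j) = dif h h' F f g hc j (q z)) :
    f z - g z = ∑ j, a' (F.ys j) * L j := by
  have key : ∀ {w : R'}, w ∈ F.J.map a' → ∃ L : Fin F.r → R',
      (∀ j, q' (L j) = pair h' (F.isFun j) w) ∧ w = ∑ j, a' (F.ys j) * L j := by
    intro w hw
    refine map_induction (a := a') (I := F.J) (P := fun w => ∃ L : Fin F.r → R',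
      (∀ j, q' (L j) = pair h' (F.isFun j) w) ∧ w = ∑ j, a' (F.ys j) * L j) ?_ ?_ ?_ hw
    · exact ⟨0, fun j => by rw [Pi.zero_apply, map_zero, pair_zero], by simp⟩
    · rintro w w' hw hw' ⟨L, hL, e⟩ ⟨L', hL', e'⟩
      refine ⟨L + L', fun j => by rw [Pi.add_apply, map_add, hL, hL', pair_add h' _ hw hw'], ?_⟩
      rw [e, e', ← Finset.sum_add_distrib]
      exact Finset.sum_congr rfl fun j _ => (mul_add _ _ _).symm
    · intro y hy s
      refine ⟨fun j => a' (algebraMap k C' (F.l j y)) * s, fun j => ?_, ?_⟩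
      · rw [map_mul, h'.comm, C'.res.commutes, pair_gen h' _ hy]
        rfl
      · conv_lhs => rw [F.expand y hy, map_sum, Finset.sum_mul]
        exact Finset.sum_congr rfl fun j _ => by rw [map_mul, mul_left_comm, mul_assoc]
  obtain ⟨L', hL', e⟩ := key (hc.mem z)
  refine e.trans (Finset.sum_congr rfl fun j _ => sub_eq_zero.1 ?_)
  rw [← mul_sub]
  have hz : q' (L' j - L j) = 0 := by rw [map_sub, hL, hL', dif_apply, sub_self]
  have := Ideal.mul_mem_mul (h'.ker_le (RingHom.mem_ker.2 hz)) (Ideal.mem_map_of_mem a' (F.ys_mem j))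
  rw [← Ideal.map_mul, show maximalIdeal C' * F.J = ⊥ from le_bot_iff.1 (Ideal.mul_le.2 fun m hm y hy =>
      Ideal.mem_bot.2 (F.mul_eq_zero hm hy)), Ideal.map_bot, Ideal.mem_bot, mul_comm] at this
  exact this

end Dif

end Groth.Agent.DefTan29
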