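import Groth.Agent.DefTan29.Cochain
import Groth.Agent.Synt29.TrivDef

/-!
Lifts of the universal derivation along an epimorphism, piece by piece.
-/

universe u

open CategoryTheory CategoryTheory.Limits AlgebraicGeometry TopologicalSpace Opposite

set_option backward.isDefEq.respectTransparency false
set_option backward.isDefEq.respectTransparency.types false

noncomputable section

namespace Groth.Agent.DefTan29

/-- Pairs `(b, n)` with `q n = d b`. -/
structure Car {B N P : Type u} [CommRing B] [AddCommGroup N] [Module B N] [AddCommGroup P] [Module B P]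
    (d : B →+ P) (q : N →ₗ[B] P) (hd : ∀ a b, d (a * b) = a • d b + b • d a) : Type u where
  fst : B
  snd : N
  eq : q snd = d fst

namespace Car

variable {B N P : Type u} [CommRing B] [AddCommGroup N] [Module B N] [AddCommGroup P] [Module B P]
  {d : B →+ P} {q : N →ₗ[B] P} {hd : ∀ a b, d (a * b) = a • d b + b • d a}

include hd in
theorem d_one : d 1 = 0 := by
  have h := hd 1 1
  rw [mul_one, one_smul] at h
  exact left_eq_add.1 h

theorem ext {x y : Car d q hd} (h : x.fst = y.fst) (h' : x.snd = y.snd) : x = y := by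
  cases x; cases y; congr

instance : Add (Car d q hd) := ⟨fun x y => ⟨x.fst + y.fst, x.snd + y.snd, by rw [map_add, map_add, x.eq, y.eq]⟩⟩
instance : Mul (Car d q hd) := ⟨fun x y => ⟨x.fst * y.fst, x.fst • y.snd + y.fst • x.snd,
  by rw [map_add, map_smul, map_smul, x.eq, y.eq, hd]⟩⟩
instance : Zero (Car d q hd) := ⟨⟨0, 0, by rw [map_zero, map_zero]⟩⟩
instance : One (Car d q hd) := ⟨⟨1, 0, by rw [map_zero, d_one (hd := hd)]⟩⟩
instance : Neg (Car d q hd) := ⟨fun x => ⟨-x.fst, -x.snd, by rw [map_neg, map_neg, x.eq]⟩⟩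

@[simp] theorem add_fst (x y : Car d q hd) : (x + y).fst = x.fst + y.fst := rfl
@[simp] theorem add_snd (x y : Car d q hd) : (x + y).snd = x.snd + y.snd := rfl
@[simp] theorem mul_fst (x y : Car d q hd) : (x * y).fst = x.fst * y.fst := rfl
@[simp] theorem mul_snd (x y : Car d q hd) : (x * y).snd = x.fst • y.snd + y.fst • x.snd := rfl
@[simp] theorem zero_fst : (0 : Car d q hd).fst = 0 := rfl
@[simp] theorem zero_snd : (0 : Car d q hd).snd = 0 := rfl
@[simp] theorem one_fst : (1 : Car d q hd).fst = 1 := rfl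
@[simp] theorem one_snd : (1 : Car d q hd).snd = 0 := rfl
@[simp] theorem neg_fst (x : Car d q hd) : (-x).fst = -x.fst := rfl
@[simp] theorem neg_snd (x : Car d q hd) : (-x).snd = -x.snd := rfl

instance instCommRing : CommRing (Car d q hd) where
  add_assoc x y z := by apply ext <;> simp [add_assoc]
  zero_add x := by apply ext <;> simp
  add_zero x := by apply ext <;> simp
  add_comm x y := by apply ext <;> simp [add_comm]
  neg_add_cancel x := by apply ext <;> simp
  nsmul := nsmulRec
  zsmul := zsmulRec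
  mul_assoc x y z := by
    apply ext
    · simp [mul_assoc]
    · simp only [mul_snd, mul_fst, smul_add, smul_smul]
      rw [mul_comm z.fst x.fst, mul_comm z.fst y.fst]
      abel
  one_mul x := by apply ext <;> simp
  mul_one x := by apply ext <;> simp
  mul_comm x y := by
    apply ext
    · simp [mul_comm]
    · simp [add_comm]
  zero_mul x := by apply ext <;> simp
  mul_zero x := by apply ext <;> simp
  left_distrib x y z := by
    apply ext
    · simp [mul_add]
    · simp only [mul_snd, add_snd, add_fst, smul_add, add_smul]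
      abel
  right_distrib x y z := by
    apply ext
    · simp [add_mul]
    · simp only [mul_snd, add_snd, add_fst, smul_add, add_smul]
      abel

/-- The projection. -/
def proj : Car d q hd →+* B where
  toFun := fst
  map_one' := rfl
  map_mul' _ _ := rfl
  map_zero' := rfl
  map_add' _ _ := rfl

theorem isNilpotent_ker : IsNilpotent (RingHom.ker (proj (d := d) (q := q) (hd := hd))) := by
  refine ⟨2, (sq _).trans (le_bot_iff.1 (Ideal.mul_le.2 fun x hx y hy => Ideal.mem_bot.2 ?_))⟩
  have hx' : x.fst = 0 := hx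
  have hy' : y.fst = 0 := hy
  apply ext <;> simp [hx', hy']

theorem proj_surjective (hq : Function.Surjective q) : Function.Surjective (proj (d := d) (q := q) (hd := hd)) :=
  fun b => ⟨⟨b, (hq (d b)).choose, (hq (d b)).choose_spec⟩, rfl⟩

theorem isUnit_of_isUnit {x : Car d q hd} (h : IsUnit x.fst) : IsUnit x := by
  obtain ⟨u, hu⟩ := h
  obtain ⟨xf, xs, xe⟩ := x
  simp only at hu
  subst hu
  have hd' : d ((u : B) * ↑u⁻¹) = 0 := by rw [Units.mul_inv, d_one (hd := hd)]
  refine IsUnit.of_mul_eq_one ⟨↑u⁻¹, -((↑u⁻¹ * ↑u⁻¹ : B) • xs), ?_⟩ (ext ?_ ?_)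
  · rw [hd] at hd'
    have h1 := congrArg ((↑u⁻¹ : B) • ·) hd'
    simp only [smul_add, smul_smul, Units.inv_mul, one_smul, smul_zero] at h1
    rw [map_neg, map_smul, xe]
    exact (eq_neg_of_add_eq_zero_left h1).symm
  · rw [mul_fst]
    exact Units.mul_inv u
  · simp only [mul_snd, smul_neg, smul_smul, ← mul_assoc, Units.mul_inv, one_mul, one_snd, neg_add_cancel]

end Car

open Groth.Agent.AModX Groth.Agent.DefGlueLib Scheme

variable {k : Type u} [Field k] {X : Scheme.{u}} [X.Over (Spec (CommRingCat.of k))] [QuasiSeparated (xk k X)]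

local notation "x₀" => xk k X

variable (k) in
/-- Compatible derivations into a module on each piece. -/
structure MData (M : X.Modules) : Type u where
  /-- the derivations -/
  D : ∀ {U T : AffineZariskiSite X}, T ≤ U → Γ(X, T.toOpens) →+ Γ(M, T.toOpens)
  mul : ∀ {U T : AffineZariskiSite X} (h : T ≤ U) a b, D h (a * b) = a • D h b + b • D h a
  const : ∀ {U T : AffineZariskiSite X} (h : T ≤ U) c, D h (str x₀ T c) = 0
  res : ∀ {U T T' : AffineZariskiSite X} (h : T ≤ U) (h' : T' ≤ T) a,
    AModX.res M (AffineZariskiSite.toOpens_mono h') (D h a) = D (h'.trans h) (rs (AffineZariskiSite.toOpens_mono h') a)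

namespace MData

variable {M : X.Modules} (d : MData k M)

/-- The value on a function over any open. -/
def Val (W : X.Opens) (U : AffineZariskiSite X) (s : Γ(X, W)) (t : Γ(M, W ⊓ U.toOpens)) : Prop :=
  ∀ (T : AffineZariskiSite X) (h : T ≤ U) (hT : T.toOpens ≤ W),
    AModX.res M (le_inf hT (AffineZariskiSite.toOpens_mono h)) t = d.D h (rs hT s)

omit [QuasiSeparated x₀] [X.Over (Spec (CommRingCat.of k))] in
theorem exists_cover {W : X.Opens} {U : AffineZariskiSite X} {q : X} (hq : q ∈ W ⊓ U.toOpens) :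
    ∃ (T : AffineZariskiSite X), T ≤ U ∧ T.toOpens ≤ W ∧ q ∈ T.toOpens := by
  obtain ⟨B, hqB, hB⟩ := DefGlueLib.exists_site_le hq.1
  obtain ⟨T, hTB, hTU, hqT⟩ := DefGlueLib.exists_common B U ⟨hqB, hq.2⟩
  exact ⟨T, hTU, (AffineZariskiSite.toOpens_mono hTB).trans hB, hqT⟩

theorem val_unique {W : X.Opens} {U : AffineZariskiSite X} {s : Γ(X, W)} {t t' : Γ(M, W ⊓ U.toOpens)}
    (h : d.Val W U s t) (h' : d.Val W U s t') : t = t' :=
  AModX.eq_of_locally _ _ fun q hq => by
    obtain ⟨T, hT, hTW, hqT⟩ := exists_cover hq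
    exact ⟨T.toOpens, _, hqT, (h T hT hTW).trans (h' T hT hTW).symm⟩

theorem exists_val (W : X.Opens) (U : AffineZariskiSite X) (s : Γ(X, W)) : ∃ t, d.Val W U s t := by
  let ι := {T : AffineZariskiSite X // T ≤ U ∧ T.toOpens ≤ W}
  obtain ⟨t, ht, -⟩ := AModX.existsUnique_glue (M := M) (V := W ⊓ U.toOpens) (fun i : ι => i.1.toOpens)
    (fun i => le_inf i.2.2 (AffineZariskiSite.toOpens_mono i.2.1))
    (fun q hq => by
      obtain ⟨T, hT, hTW, hqT⟩ := exists_cover hq
      exact ⟨⟨T, hT, hTW⟩, hqT⟩)
    (fun i => d.D i.2.1 (rs i.2.2 s))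
    (fun i j => AModX.eq_of_locally _ _ fun q hq => by
      obtain ⟨T, hTi, hTj, hqT⟩ := DefGlueLib.exists_common i.1 j.1 hq
      refine ⟨T.toOpens, le_inf (AffineZariskiSite.toOpens_mono hTi) (AffineZariskiSite.toOpens_mono hTj), hqT, ?_⟩
      rw [res_res, res_res, d.res i.2.1 hTi, d.res j.2.1 hTj, rs_rs, rs_rs])
  exact ⟨t, fun T h hT => ht ⟨T, h, hT⟩⟩

/-- The value. -/
def mval (W : X.Opens) (U : AffineZariskiSite X) (s : Γ(X, W)) : Γ(M, W ⊓ U.toOpens) := (d.exists_val W U s).choose

theorem mval_spec (W : X.Opens) (U : AffineZariskiSite X) (s : Γ(X, W)) : d.Val W U s (d.mval W U s) :=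
  (d.exists_val W U s).choose_spec

theorem mval_eq {W : X.Opens} {U : AffineZariskiSite X} {s : Γ(X, W)} {t : Γ(M, W ⊓ U.toOpens)}
    (h : d.Val W U s t) : d.mval W U s = t :=
  d.val_unique (d.mval_spec W U s) h

/-- The derivation into families. -/
def toDer : OmegaSh.Der x₀ (Pi M fun U : AffineZariskiSite X => U.toOpens) where
  d {W} := AddMonoidHom.mk' (fun s => ofFam fun U => d.mval W.unop U s) fun a b => funext fun U =>
    d.mval_eq fun T hT hTW => by
      show AModX.res M _ (d.mval W.unop U a + d.mval W.unop U b) = _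
      rw [map_add, d.mval_spec W.unop U a T hT hTW, d.mval_spec W.unop U b T hT hTW, map_add, map_add]
  d_mul {W} a b := funext fun U => d.mval_eq fun T hT hTW => by
    show AModX.res M _ (rU (fun U : AffineZariskiSite X => U.toOpens) W.unop U a • d.mval W.unop U b +
      rU (fun U : AffineZariskiSite X => U.toOpens) W.unop U b • d.mval W.unop U a) = _
    rw [map_add, res_smul, res_smul, d.mval_spec W.unop U a T hT hTW, d.mval_spec W.unop U b T hT hTW,
      resR_resR, resR_resR, map_mul (rs hTW), d.mul]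
    rfl
  d_map {_ _} i s := funext fun U => d.mval_eq fun T hT hTW => by
    show AModX.res M _ (AModX.res M (inf_le_inf_right _ i.unop.le) (d.mval _ U s)) = _
    rw [res_res, d.mval_spec _ U s T hT (hTW.trans i.unop.le)]
    exact congrArg (d.D hT) (rs_rs i.unop.le hTW s).symm
  d_app {V} s := funext fun U => d.mval_eq fun T hT hTW => by
    by_cases hV : V.unop = ⊤
    · obtain ⟨V⟩ := V
      subst hV
      obtain ⟨c, rfl⟩ := (ConcreteCategory.bijective_of_isIso (Scheme.ΓSpecIso (CommRingCat.of k)).inv).2 s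
      refine (map_zero _).trans ?_
      have e : rs hTW ((x₀).app ⊤ ((Scheme.ΓSpecIso (CommRingCat.of k)).inv c)) = str x₀ T c := rfl
      exact ((congrArg (d.D hT) e).trans (d.const hT c)).symm
    · have hb : V.unop = ⊥ := by
        refine Opens.ext (Set.eq_empty_iff_forall_notMem.2 fun q hq => hV ?_)
        exact top_le_iff.1 fun r _ => (Subsingleton.elim q r) ▸ hq
      have he : T.toOpens = ⊥ := le_bot_iff.1 (hTW.trans (show (x₀) ⁻¹ᵁ V.unop ≤ ⊥ by rw [hb]; exact le_rfl))
      refine AModX.eq_of_locally _ _ fun q hq => ?_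
      rw [he] at hq
      exact hq.elim

theorem exists_hom : ∃ σ : Omega.sheaf x₀ ⟶ Pi M fun U : AffineZariskiSite X => U.toOpens,
    ∀ (W : X.Opens) (s : Γ(X, W)) (U T : AffineZariskiSite X) (h : T ≤ U) (hT : T.toOpens ≤ W),
      AModX.res M (le_inf hT (AffineZariskiSite.toOpens_mono h))
        (toFam (σ.app W ((OmegaSh.dOmega x₀).app W s)) U) = d.D h (rs hT s) := by
  obtain ⟨σ, hσ, -⟩ := OmegaUniv.isUniversal_dOmega x₀ _ d.toDer
  refine ⟨σ, fun W s U T h hT => ?_⟩
  have h1 : toFam (σ.app W ((OmegaSh.dOmega x₀).app W s)) U = d.mval W U s :=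
    congrArg (fun m => toFam m U) (PresheafOfModules.Derivation.congr_d hσ (X := op W) s)
  rw [h1]
  exact d.mval_spec W U s T h hT

end MData

omit [QuasiSeparated x₀] in
theorem smooth_str [Smooth x₀] (U : AffineZariskiSite X) : RingHom.Smooth (str x₀ U) := by
  have h := (HasRingHomProperty.iff_appLE (P := @Smooth) (f := x₀)).1 inferInstance
    ⟨⊤, isAffineOpen_top _⟩ ⟨U.toOpens, U.2⟩ le_top
  exact RingHom.Smooth.respectsIso.2 _ (Scheme.ΓSpecIso (CommRingCat.of k)).symm.commRingCatIsoToRingEquiv h

theorem exists_mData [Smooth x₀] {E : X.Modules} (π : E ⟶ Omega.sheaf x₀)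
    (hπ : ∀ U : AffineZariskiSite X, Function.Surjective (π.app U.toOpens)) :
    ∃ d : MData k E, ∀ {U T : AffineZariskiSite X} (h : T ≤ U) a,
      π.app T.toOpens (d.D h a) = (OmegaSh.dOmega x₀).app T.toOpens a := by
  classical
  let dd := fun T : AffineZariskiSite X => (OmegaSh.dOmega x₀).app T.toOpens
  have hdd : ∀ (T : AffineZariskiSite X) a b, dd T (a * b) = a • dd T b + b • dd T a :=
    fun T a b => (OmegaSh.dOmega x₀).d_mul (X := op T.toOpens) a b
  let qq := fun T : AffineZariskiSite X =>
    ({ toFun := π.app T.toOpens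
       map_add' := map_add (π.app T.toOpens).hom
       map_smul' := fun r m => Scheme.Modules.Hom.app_smul π r m } :
      Γ(E, T.toOpens) →ₗ[Γ(X, T.toOpens)] Γ(Omega.sheaf x₀, T.toOpens))
  let R := fun T : AffineZariskiSite X => Car (dd T) (qq T) (hdd T)
  have hdc : ∀ (T : AffineZariskiSite X) (c : k), dd T (str x₀ T c) = 0 := fun T c => by
    have h1 : (OmegaSh.dOmega x₀).app T.toOpens
        (rs le_top ((x₀).app ⊤ ((Scheme.ΓSpecIso (CommRingCat.of k)).inv c))) = AModX.res _ le_top _ :=
      (OmegaSh.dOmega x₀).d_map (homOfLE le_top).op _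
    refine h1.trans ((congrArg (AModX.res _ le_top) ((OmegaSh.dOmega x₀).d_app (X := op ⊤)
      ((Scheme.ΓSpecIso (CommRingCat.of k)).inv c))).trans (map_zero _))
  let cst := fun T : AffineZariskiSite X =>
    ({ toFun := fun c => ⟨str x₀ T c, 0, (map_zero (qq T)).trans (hdc T c).symm⟩
       map_one' := Car.ext (map_one _) rfl
       map_mul' := fun a b => Car.ext (map_mul _ _ _) (by rw [Car.mul_snd]; exact ((congrArg₂ (· + ·) (smul_zero _) (smul_zero _)).trans (add_zero 0)).symm)
       map_zero' := Car.ext (map_zero _) rfl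
       map_add' := fun a b => Car.ext (map_add _ _ _) (add_zero 0).symm } : k →+* R T)
  have hsec : ∀ U : AffineZariskiSite X, ∃ s : Γ(X, U.toOpens) →+* R U,
      (∀ b, Car.proj (s b) = b) ∧ s.comp (str x₀ U) = cst U := fun U =>
    Synt29.TrivDef.exists_section _ (smooth_str U) (cst U) Car.proj (Car.proj_surjective (hπ U))
      Car.isNilpotent_ker rfl
  choose s hs hsc using hsec
  let ρ := fun {U T : AffineZariskiSite X} (h : T ≤ U) =>
    ({ toFun := fun z => ⟨rs (AffineZariskiSite.toOpens_mono h) z.fst, AModX.res E (AffineZariskiSite.toOpens_mono h) z.snd, by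
         refine (AModX.app_res π (AffineZariskiSite.toOpens_mono h) z.snd).trans ?_
         refine (congrArg (AModX.res _ _) z.eq).trans ?_
         exact ((OmegaSh.dOmega x₀).d_map (homOfLE (AffineZariskiSite.toOpens_mono h)).op z.fst).symm⟩
       map_one' := Car.ext (map_one _) (map_zero _)
       map_mul' := fun a b => Car.ext (map_mul _ _ _) (by
         show AModX.res E _ (a.fst • b.snd + b.fst • a.snd) = _
         rw [map_add, res_smul, res_smul]
         rfl)
       map_zero' := Car.ext (map_zero _) (map_zero _)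
       map_add' := fun a b => Car.ext (map_add _ _ _) (map_add _ _ _) } : R U →+* R T)
  have hext : ∀ {U T : AffineZariskiSite X} (h : T ≤ U), ∃ t : Γ(X, T.toOpens) →+* R T,
      (∀ b, t (rs (AffineZariskiSite.toOpens_mono h) b) = ρ h (s U b)) ∧ (∀ b, Car.proj (t b) = b) ∧
        ∀ t' : Γ(X, T.toOpens) →+* R T,
          (∀ b, t' (rs (AffineZariskiSite.toOpens_mono h) b) = ρ h (s U b)) → t' = t := by
    intro U T h
    obtain ⟨f, hf⟩ := id h
    letI : Algebra Γ(X, U.toOpens) Γ(X, T.toOpens) := (rs (AffineZariskiSite.toOpens_mono h)).toAlgebra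
    haveI : IsLocalization.Away f Γ(X, T.toOpens) := U.2.isLocalization_of_eq_basicOpen f
      (homOfLE (AffineZariskiSite.toOpens_mono h)) hf.symm
    have hu : IsUnit (((ρ h).comp (s U)) f) := Car.isUnit_of_isUnit (by
      show IsUnit (rs (AffineZariskiSite.toOpens_mono h) (Car.proj (s U f)))
      rw [hs]
      exact IsLocalization.Away.algebraMap_isUnit f)
    refine ⟨IsLocalization.Away.lift f hu, fun b => IsLocalization.Away.lift_eq f hu b, fun b => ?_, fun t' ht' => ?_⟩
    · refine RingHom.congr_fun (IsLocalization.ringHom_ext (Submonoid.powers f)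
        (j := Car.proj.comp (IsLocalization.Away.lift f hu)) (k := RingHom.id _) (RingHom.ext fun b => ?_)) b
      refine (congrArg Car.proj (IsLocalization.Away.lift_eq f hu b)).trans ?_
      exact congrArg (rs (AffineZariskiSite.toOpens_mono h)) (hs U b)
    · exact IsLocalization.ringHom_ext (Submonoid.powers f)
        (RingHom.ext fun b => (ht' b).trans (IsLocalization.Away.lift_eq f hu b).symm)
  choose t ht htp htu using @hext
  refine ⟨{ D := fun {U T} h => AddMonoidHom.mk' (fun a => (t h a).snd) fun a b => by rw [map_add]; rfl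
            mul := fun {U T} h a b => ?_
            const := fun {U T} h c => ?_
            res := fun {U T T'} h h' a => ?_ }, fun {U T} h a => ?_⟩
  · show (t h (a * b)).snd = a • (t h b).snd + b • (t h a).snd
    rw [map_mul, Car.mul_snd]
    exact congrArg₂ (· + ·) (congrArg (· • (t h b).snd) (htp h a)) (congrArg (· • (t h a).snd) (htp h b))
  · show (t h (str x₀ T c)).snd = 0
    have e : str x₀ T c = rs (AffineZariskiSite.toOpens_mono h) (str x₀ U c) :=
      (RingHom.congr_fun (str_res x₀ h) c).symm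
    rw [e, ht, show s U (str x₀ U c) = cst U c from RingHom.congr_fun (hsc U) c]
    exact map_zero _
  · show AModX.res E _ (t h a).snd = (t (h'.trans h) (rs (AffineZariskiSite.toOpens_mono h') a)).snd
    obtain ⟨f, hf⟩ := id h
    letI : Algebra Γ(X, U.toOpens) Γ(X, T.toOpens) := (rs (AffineZariskiSite.toOpens_mono h)).toAlgebra
    haveI : IsLocalization.Away f Γ(X, T.toOpens) := U.2.isLocalization_of_eq_basicOpen f
      (homOfLE (AffineZariskiSite.toOpens_mono h)) hf.symm
    have hh : (ρ h').comp (t h) = (t (h'.trans h)).comp (rs (AffineZariskiSite.toOpens_mono h')) := by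
      refine IsLocalization.ringHom_ext (Submonoid.powers f) (RingHom.ext fun b => ?_)
      show ρ h' (t h (rs (AffineZariskiSite.toOpens_mono h) b)) =
        t (h'.trans h) (rs (AffineZariskiSite.toOpens_mono h') (rs (AffineZariskiSite.toOpens_mono h) b))
      rw [ht, rs_rs, ht]
      exact Car.ext (rs_rs _ _ _) (res_res _ _ _)
    exact congrArg Car.snd (RingHom.congr_fun hh a)
  · show π.app T.toOpens (t h a).snd = _
    refine (t h a).eq.trans ?_
    exact congrArg (dd T) (htp h a)

end Groth.Agent.DefTan29
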