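import Groth.Agent.DefGlueLib.Schless

/-!
Operations on morphisms of families and the comparison of a family with the sections of its gluing.
-/

universe u

open CategoryTheory CategoryTheory.Limits AlgebraicGeometry Opposite ArtFun

set_option backward.isDefEq.respectTransparency false
set_option backward.isDefEq.respectTransparency.types false

noncomputable section

namespace Groth.Agent.DefTan29

open Groth.Agent.DefGlueLib Scheme

variable {Λ k : Type u} [CommRing Λ] [Field k] [Algebra Λ k]
variable {X : Scheme.{u}} {x : X ⟶ Art.specPt k} {A B C : Art Λ k}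

theorem phom_q {g : A ⟶ B} {D : PDef x A} {D' : PDef x B} (φ : PHom g D D') (U : (AffineZariskiSite X)ᵒᵖ)
    (z : D.R.obj U) : (D'.q.app U).hom ((φ.app.app U).hom z) = (D.q.app U).hom z :=
  ConcreteCategory.congr_hom (congrArg (fun t => NatTrans.app t U) φ.q_app) z

/-- Composition of morphisms of families. -/
def phomComp {g : A ⟶ B} {g' : B ⟶ C} {D : PDef x A} {D' : PDef x B} {D'' : PDef x C} (φ : PHom g D D')
    (φ' : PHom g' D' D'') : PHom (g ≫ g') D D'' where
  app := φ.app ≫ φ'.app
  comm U c := (congrArg (φ'.app.app U).hom (φ.comm U c)).trans (φ'.comm U (g c))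
  q_app := by rw [Category.assoc, φ'.q_app, φ.q_app]

/-- Change the morphism of objects. -/
def phomCast {g g' : A ⟶ B} {D : PDef x A} {D' : PDef x B} (φ : PHom g D D') (e : g = g') : PHom g' D D' where
  app := φ.app
  comm := e ▸ φ.comm
  q_app := φ.q_app

theorem phom_bijective {D D' : PDef x C} (φ : PHom (𝟙 C) D D') (U : (AffineZariskiSite X)ᵒᵖ) :
    Function.Bijective (φ.app.app U).hom :=
  (D.isDef U).bijective (D'.isDef U) _ (φ.comm U) (phom_q φ U)

/-- The inverse of a morphism of families over the identity. -/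
def phomSymm {D D' : PDef x C} (φ : PHom (𝟙 C) D D') : PHom (𝟙 C) D' D where
  app :=
    { app := fun U => CommRingCat.ofHom (RingEquiv.ofBijective _ (phom_bijective φ U)).symm.toRingHom
      naturality := fun U V f => CommRingCat.hom_ext (RingHom.ext fun z => by
        refine (phom_bijective φ V).1 ?_
        obtain ⟨w, rfl⟩ := (phom_bijective φ U).2 z
        refine ((RingEquiv.ofBijective _ (phom_bijective φ V)).apply_symm_apply _).trans ?_
        refine (ConcreteCategory.congr_hom (φ.app.naturality f) w).symm.trans ?_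
        refine congrArg (φ.app.app V).hom (congrArg (D.R.map f).hom ?_)
        exact ((RingEquiv.ofBijective _ (phom_bijective φ U)).symm_apply_apply w).symm) }
  comm U c := (phom_bijective φ U).1
    (((RingEquiv.ofBijective _ (phom_bijective φ U)).apply_symm_apply _).trans (φ.comm U c).symm)
  q_app := NatTrans.ext (funext fun U => CommRingCat.hom_ext (RingHom.ext fun z => by
    obtain ⟨w, rfl⟩ := (phom_bijective φ U).2 z
    refine (congrArg (D.q.app U).hom ((RingEquiv.ofBijective _ (phom_bijective φ U)).symm_apply_apply w)).trans ?_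
    exact (phom_q φ U w).symm))

variable (D : PDef x C)

/-- The inclusion of a piece. -/
def pieceι (U : AffineZariskiSite X) : Spec (D.R.obj (op U)) ⟶ D.toDefSch.total := colimit.ι D.diagram U

theorem pieceι_w {U V : AffineZariskiSite X} (f : op U ⟶ op V) :
    Spec.map (D.R.map f) ≫ pieceι D U = pieceι D V := colimit.w D.diagram f.unop

theorem pieceι_str (U : AffineZariskiSite X) :
    pieceι D U ≫ D.toDefSch.f = Spec.map (CommRingCat.ofHom (D.a (op U))) := D.ι_str' U

theorem pieceι_incl (U : AffineZariskiSite X) :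
    U.toOpens.ι ≫ D.toDefSch.i = U.toOpens.toSpecΓ ≫ Spec.map (D.qU U) ≫ pieceι D U :=
  (D.ι_incl U).trans (Category.assoc _ _ _)

theorem top_le_preimage (U : AffineZariskiSite X) :
    ⊤ ≤ pieceι D U ⁻¹ᵁ imOpen D.toDefSch U.toOpens := fun y _ => by
  obtain ⟨y', rfl⟩ := (D.bijective_θ U).2 y
  exact ⟨y'.1, y'.2, congrArg (fun φ : (U.toOpens : Scheme.{u}) ⟶ D.glued => φ y') (D.ι_incl U)⟩

/-- The sections of the glued deformation on a piece. -/
def unitApp (U : AffineZariskiSite X) : Γ(D.toDefSch.total, imOpen D.toDefSch U.toOpens) ⟶ D.R.obj (op U) :=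
  (pieceι D U).appLE (imOpen D.toDefSch U.toOpens) ⊤ (top_le_preimage D U) ≫
    (Scheme.ΓSpecIso (D.R.obj (op U))).hom

theorem SpecMap_unitApp (U : AffineZariskiSite X) :
    Spec.map (unitApp D U) ≫ (isAffineOpen_imOpen D.toDefSch U).fromSpec = pieceι D U := by
  have h := IsAffineOpen.SpecMap_appLE_fromSpec (pieceι D U) (isAffineOpen_imOpen D.toDefSch U)
    (isAffineOpen_top (Spec (D.R.obj (op U)))) (top_le_preimage D U)
  rw [IsAffineOpen.fromSpec_top, Scheme.isoSpec_Spec_inv] at h
  rw [unitApp, Spec.map_comp, Category.assoc, h, ← Category.assoc, ← Spec.map_comp, Iso.inv_hom_id, Spec.map_id]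
  exact Category.id_comp _

/-- The comparison with the sections of the gluing. -/
def unit : PHom (𝟙 C) (ofSch D.toDefSch) D where
  app :=
    { app := fun U => unitApp D U.unop
      naturality := fun U V f => Spec.map_injective <| by
        rw [← cancel_mono (isAffineOpen_imOpen D.toDefSch U.unop).fromSpec, Spec.map_comp, Spec.map_comp,
          Category.assoc, Category.assoc, SpecMap_unitApp]
        refine (congrArg (_ ≫ ·) (IsAffineOpen.map_fromSpec (isAffineOpen_imOpen D.toDefSch U.unop)
          (isAffineOpen_imOpen D.toDefSch V.unop) _)).trans ?_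
        rw [SpecMap_unitApp]
        exact (pieceι_w D f).symm }
  comm U c := by
    refine RingHom.congr_fun (congrArg CommRingCat.Hom.hom
      (show CommRingCat.ofHom (secA D.toDefSch (imOpen D.toDefSch U.unop.toOpens)) ≫ unitApp D U.unop =
        CommRingCat.ofHom (D.a U) from Spec.map_injective ?_)) c
    rw [Spec.map_comp, SpecMap_secA D.toDefSch (isAffineOpen_imOpen D.toDefSch U.unop), ← Category.assoc,
      SpecMap_unitApp]
    exact pieceι_str D U.unop
  q_app := NatTrans.ext (funext fun U => Spec.map_injective <| by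
    show Spec.map (unitApp D U.unop ≫ D.q.app U) = Spec.map (D.incl.appLE _ _ _)
    rw [← cancel_mono (isAffineOpen_imOpen D.toDefSch U.unop).fromSpec, Spec.map_comp, Category.assoc,
      SpecMap_unitApp]
    refine Eq.trans ?_ (IsAffineOpen.SpecMap_appLE_fromSpec D.incl (isAffineOpen_imOpen D.toDefSch U.unop) U.unop.2
      (preimage_imOpen D.toDefSch U.unop.toOpens).ge).symm
    refine Eq.trans ?_ (congrArg (· ≫ D.toDefSch.i) (IsAffineOpen.isoSpec_inv_ι U.unop.2))
    rw [Category.assoc, pieceι_incl, ← IsAffineOpen.isoSpec_hom U.unop.2, Iso.inv_hom_id_assoc])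

/-- An isomorphism of the gluings gives a morphism of families. -/
def phomOfIso {D D' : PDef x C} (e : D'.toDefSch.Iso D.toDefSch) : PHom (𝟙 C) D D' :=
  phomCast (phomComp (phomSymm (unit D)) (phomCast (phomComp (Ov.ofIso e).sec (unit D'))
    (Category.comp_id _))) (Category.comp_id _)

end Groth.Agent.DefTan29
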