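import Groth.Agent.AModX.Res
import Groth.Agent.QCoh.Submod

/-!
The product of the direct images of the restrictions of a module to the opens of a family.
-/

universe u

open CategoryTheory CategoryTheory.Limits AlgebraicGeometry TopologicalSpace Opposite

namespace Groth.Agent.DefTan29

open Groth.Agent.AModX

variable {X : Scheme.{u}} {ι : Type u} (M : X.Modules) (U : ι → X.Opens)

/-- Families of sections on the opens of a family. -/
abbrev Fam (W : X.Opens) : Type u := ∀ i : ι, Γ(M, W ⊓ U i)

/-- Restriction of functions to a member. -/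
noncomputable abbrev rU (W : X.Opens) (i : ι) : Γ(X, W) →+* Γ(X, W ⊓ U i) := resR inf_le_left

noncomputable instance instModule (W : X.Opens) : Module Γ(X, W) (Fam M U W) where
  smul r f i := rU U W i r • f i
  one_smul f := funext fun i => by
    show rU U W i 1 • f i = f i
    rw [map_one]
    exact one_smul _ _
  mul_smul r s f := funext fun i => by
    show rU U W i (r * s) • f i = rU U W i r • rU U W i s • f i
    rw [map_mul, mul_smul]
  smul_zero r := funext fun i => by
    show rU U W i r • (0 : Γ(M, W ⊓ U i)) = 0
    rw [smul_zero]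
  smul_add r f g := funext fun i => by
    show rU U W i r • (f i + g i) = rU U W i r • f i + rU U W i r • g i
    rw [smul_add]
  add_smul r s f := funext fun i => by
    show rU U W i (r + s) • f i = rU U W i r • f i + rU U W i s • f i
    rw [map_add, add_smul]
  zero_smul f := funext fun i => by
    show rU U W i 0 • f i = 0
    rw [map_zero, zero_smul]

/-- Restriction of families. -/
noncomputable def fres {W W' : X.Opens} (h : W' ≤ W) : Fam M U W →+ Fam M U W' :=
  AddMonoidHom.mk' (fun f i => res M (inf_le_inf_right _ h) (f i)) fun _ _ => funext fun _ => map_add _ _ _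

/-- The presheaf of families. -/
noncomputable def psh : (X.Opens)ᵒᵖ ⥤ Ab.{u} where
  obj W := AddCommGrpCat.of (Fam M U W.unop)
  map i := AddCommGrpCat.ofHom (fres M U i.unop.le)
  map_id W := AddCommGrpCat.hom_ext (AddMonoidHom.ext fun f => funext fun i =>
    res_self ((show Fam M U W.unop from f) i))
  map_comp a b := AddCommGrpCat.hom_ext (AddMonoidHom.ext fun f => funext fun i =>
    (res_res _ _ ((show Fam M U _ from f) i)).symm)

noncomputable instance (W : (X.Opens)ᵒᵖ) : Module (X.ringCatSheaf.obj.obj W) ((psh M U).obj W) :=
  inferInstanceAs (Module Γ(X, W.unop) (Fam M U W.unop))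

/-- The presheaf of modules of families. -/
noncomputable def pmod : X.PresheafOfModules :=
  PresheafOfModules.ofPresheaf (R := X.ringCatSheaf.obj) (psh M U) fun W W' a r f => funext fun i => by
    show res M (inf_le_inf_right _ a.unop.le) (rU U W.unop i (show Γ(X, W.unop) from r) • (show Fam M U W.unop from f) i) =
      rU U W'.unop i (resR a.unop.le (show Γ(X, W.unop) from r)) •
        res M (inf_le_inf_right _ a.unop.le) ((show Fam M U W.unop from f) i)
    rw [res_smul, resR_resR, resR_resR]

theorem isSheaf : Presheaf.IsSheaf (Opens.grothendieckTopology X) (pmod M U).presheaf := by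
  refine (TopCat.Presheaf.isSheaf_iff_isSheafUniqueGluing (X := X.toPresheafedSpace.carrier)
    (psh M U)).2 fun J W sf hsf => ?_
  have hex : ∀ x : ι, ∃! g : Γ(M, iSup W ⊓ U x),
      ∀ j, res M (inf_le_inf_right _ (le_iSup W j)) g = (show Fam M U (W j) from sf j) x := fun x => by
    refine existsUnique_glue (M := M) (fun j => W j ⊓ U x)
      (fun j => inf_le_inf_right _ (le_iSup W j)) (fun p hp => ?_) (fun j => (show Fam M U (W j) from sf j) x)
      fun i j => ?_
    · obtain ⟨j, hj⟩ := Opens.mem_iSup.1 hp.1
      exact ⟨j, hj, hp.2⟩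
    · have h := congrArg (fun a : Fam M U (W i ⊓ W j) => a x) (hsf i j)
      have h' := congrArg (res M (le_inf (le_inf (inf_le_left.trans inf_le_left) (inf_le_right.trans inf_le_left))
        (inf_le_left.trans inf_le_right) : (W i ⊓ U x) ⊓ (W j ⊓ U x) ≤ (W i ⊓ W j) ⊓ U x)) h
      refine ((res_res _ _ _).symm.trans h').trans (res_res _ _ _)
  choose g hg huniq using hex
  exact ⟨fun x => g x, fun j => funext fun x => hg x j,
    fun t ht => funext fun x => huniq x _ fun j => congrFun (ht j) x⟩

/-- The product of the direct images. -/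
noncomputable def Pi : X.Modules :=
  ⟨pmod M U, isSheaf M U⟩

variable {M U}

/-- A section as a family. -/
abbrev toFam {W : X.Opens} (s : Γ(Pi M U, W)) : Fam M U W := s

/-- A family as a section. -/
abbrev ofFam {W : X.Opens} (f : Fam M U W) : Γ(Pi M U, W) := f

theorem pi_ext {W : X.Opens} {s t : Γ(Pi M U, W)} (h : ∀ i, toFam s i = toFam t i) : s = t := funext h

theorem smul_apply {W : X.Opens} (r : Γ(X, W)) (s : Γ(Pi M U, W)) (i : ι) :
    toFam (r • s) i = rU U W i r • toFam s i := rfl

theorem res_apply {W W' : X.Opens} (h : W' ≤ W) (s : Γ(Pi M U, W)) (i : ι) :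
    toFam (res (Pi M U) h s) i = res M (inf_le_inf_right _ h) (toFam s i) := rfl

variable (M U)

/-- Restrictions of a section to the members of the family. -/
noncomputable def incl : M ⟶ Pi M U where
  val := PresheafOfModules.homMk
    { app := fun W => AddCommGrpCat.ofHom (AddMonoidHom.mk'
        (fun s => ofFam fun i => res M (inf_le_left : W.unop ⊓ U i ≤ W.unop) s)
        fun s t => funext fun _ => map_add _ _ _)
      naturality := fun W W' a => by
        ext s
        refine funext fun i => ?_
        exact (res_res _ _ _).trans (res_res _ _ _).symm }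
    fun W r s => funext fun i => res_smul (inf_le_left : W.unop ⊓ U i ≤ W.unop) (show Γ(X, W.unop) from r) (show Γ(M, W.unop) from s)

theorem incl_apply {W : X.Opens} (s : Γ(M, W)) (i : ι) :
    toFam ((incl M U).app W s) i = res M (inf_le_left : W ⊓ U i ≤ W) s := rfl

variable {M} {N : X.Modules}

/-- Functoriality. -/
noncomputable def map (φ : M ⟶ N) : Pi M U ⟶ Pi N U where
  val := PresheafOfModules.homMk
    { app := fun W => AddCommGrpCat.ofHom (AddMonoidHom.mk'
        (fun s => ofFam fun i => φ.app (W.unop ⊓ U i) (toFam s i))
        fun s t => funext fun i => map_add (φ.app (W.unop ⊓ U i)).hom _ _)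
      naturality := fun W W' a => by
        ext s
        refine funext fun i => ?_
        exact app_res φ _ _ }
    fun W r s => funext fun i => Scheme.Modules.Hom.app_smul φ _ _

theorem map_apply (φ : M ⟶ N) {W : X.Opens} (s : Γ(Pi M U, W)) (i : ι) :
    toFam ((map U φ).app W s) i = φ.app (W ⊓ U i) (toFam s i) := rfl

end Groth.Agent.DefTan29
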