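import Groth.Agent.DefTan29.Pi
import Groth.Agent.RelTildeX.SheafCrit
import Groth.Agent.DefGlueLib.Der

/-!
The sheaf of 1-cocycles on the poset of affine opens, and the extension of it by the structure sheaf.
-/

universe u

open CategoryTheory CategoryTheory.Limits AlgebraicGeometry TopologicalSpace Opposite

set_option backward.isDefEq.respectTransparency.types false

namespace Groth.Agent.DefTan29

open Groth.Agent.AModX Scheme

variable (X : Scheme.{u})

/-- Pairs of nested affine pieces. -/
abbrev Pr : Type u := {p : AffineZariskiSite X × AffineZariskiSite X // p.2 ≤ p.1}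

/-- Families of functions on affine pieces. -/
noncomputable abbrev P0 : X.Modules := Pi (Coh.structureModule X) fun U : AffineZariskiSite X => U.toOpens

/-- Families of functions on nested pairs. -/
noncomputable abbrev P1 : X.Modules := Pi (Coh.structureModule X) fun p : Pr X => p.1.2.toOpens

variable {X}

/-- The value at a nested pair. -/
noncomputable abbrev at1 {W : X.Opens} (c : Γ(P1 X, W)) {U V : AffineZariskiSite X} (h : V ≤ U) :
    Γ(Coh.structureModule X, W ⊓ V.toOpens) :=
  toFam c ⟨(U, V), h⟩

/-- The value at an affine piece. -/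
noncomputable abbrev at0 {W : X.Opens} (a : Γ(P0 X, W)) (U : AffineZariskiSite X) :
    Γ(Coh.structureModule X, W ⊓ U.toOpens) :=
  toFam a U

/-- Restriction between pieces. -/
noncomputable abbrev rp (W : X.Opens) {U V : AffineZariskiSite X} (h : V ≤ U) :
    Γ(Coh.structureModule X, W ⊓ U.toOpens) →+ Γ(Coh.structureModule X, W ⊓ V.toOpens) :=
  res _ (inf_le_inf_left W (AffineZariskiSite.toOpens_mono h))

variable (X)

/-- The coboundary. -/
noncomputable def coB : P0 X ⟶ P1 X where
  val := PresheafOfModules.homMk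
    { app := fun W => AddCommGrpCat.ofHom (AddMonoidHom.mk'
        (fun a => ofFam fun p : Pr X => rp W.unop p.2 (at0 a p.1.1) - at0 a p.1.2)
        fun a b => funext fun p => by
          show rp W.unop p.2 (at0 a p.1.1 + at0 b p.1.1) - (at0 a p.1.2 + at0 b p.1.2) = _
          rw [map_add, add_sub_add_comm]
          rfl)
      naturality := fun W W' i => by
        ext a
        refine funext fun p => ?_
        show rp W'.unop p.2 (res _ _ (at0 a p.1.1)) - res _ _ (at0 a p.1.2) = res _ _ (rp W.unop p.2 (at0 a p.1.1) - at0 a p.1.2)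
        rw [map_sub, res_res, res_res] }
    fun W r a => funext fun p => by
      show rp W.unop p.2 (rU (fun U : AffineZariskiSite X => U.toOpens) W.unop p.1.1 (show Γ(X, W.unop) from r) • at0 a p.1.1) -
          rU (fun U : AffineZariskiSite X => U.toOpens) W.unop p.1.2 (show Γ(X, W.unop) from r) • at0 a p.1.2 =
        rU (fun q : Pr X => q.1.2.toOpens) W.unop p (show Γ(X, W.unop) from r) • (rp W.unop p.2 (at0 a p.1.1) - at0 a p.1.2)
      rw [res_smul, resR_resR, smul_sub]

theorem coB_apply {W : X.Opens} (a : Γ(P0 X, W)) {U V : AffineZariskiSite X} (h : V ≤ U) :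
    at1 ((coB X).app W a) h = rp W h (at0 a U) - at0 a V := rfl

/-- The cocycle condition. -/
def IsCocy {W : X.Opens} (c : Γ(P1 X, W)) : Prop :=
  ∀ (U V V' : AffineZariskiSite X) (h : V ≤ U) (h' : V' ≤ V),
    at1 c (h'.trans h) = rp W h' (at1 c h) + at1 c h'

/-- Cocycles. -/
noncomputable def cocy : QCoh.SubMod (P1 X) where
  mem W :=
    { carrier := {c | IsCocy X c}
      zero_mem' := fun U V V' h h' => by
        show (0 : Γ(Coh.structureModule X, W ⊓ V'.toOpens)) = rp W h' 0 + 0
        rw [map_zero, add_zero]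
      add_mem' := fun {c d} hc hd U V V' h h' => by
        show at1 c (h'.trans h) + at1 d (h'.trans h) = rp W h' (at1 c h + at1 d h) + (at1 c h' + at1 d h')
        rw [map_add, hc U V V' h h', hd U V V' h h', add_add_add_comm]
      smul_mem' := fun r c hc U V V' h h' => by
        show rU (fun q : Pr X => q.1.2.toOpens) W ⟨(U, V'), h'.trans h⟩ r • at1 c (h'.trans h) =
          rp W h' (rU (fun q : Pr X => q.1.2.toOpens) W ⟨(U, V), h⟩ r • at1 c h) +
            rU (fun q : Pr X => q.1.2.toOpens) W ⟨(V, V'), h'⟩ r • at1 c h'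
        rw [res_smul, resR_resR, hc U V V' h h', smul_add] }
  map_mem {W W'} i c hc U V V' h h' := by
    show res _ _ (at1 c (h'.trans h)) = rp W' h' (res _ _ (at1 c h)) + res _ _ (at1 c h')
    rw [hc U V V' h h', map_add, res_res, res_res]
  of_locally W c hc U V V' h h' := eq_of_locally _ _ fun p hp => by
    obtain ⟨W', i, hpW', hW'⟩ := hc p hp.1
    refine ⟨W' ⊓ V'.toOpens, inf_le_inf_right _ i, ⟨hpW', hp.2⟩, ?_⟩
    have := hW' U V V' h h'
    rw [map_add, res_res]
    exact this.trans (congrArg (· + _) (res_res _ _ _))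

/-- The sheaf of cocycles. -/
noncomputable abbrev Z1 : X.Modules := (cocy X).toModules

theorem isCocy_coB {W : X.Opens} (a : Γ(P0 X, W)) : IsCocy X ((coB X).app W a) := fun U V V' h h' => by
  rw [coB_apply, coB_apply, coB_apply, map_sub, res_res, sub_add_sub_cancel]

/-- The coboundary into cocycles. -/
noncomputable def coBZ : P0 X ⟶ Z1 X where
  val := PresheafOfModules.homMk
    { app := fun W => AddCommGrpCat.ofHom (AddMonoidHom.mk'
        (fun a => (⟨(coB X).app W.unop a, isCocy_coB X a⟩ : (cocy X).mem W.unop))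
        fun a b => Subtype.ext (map_add ((coB X).app W.unop).hom a b))
      naturality := fun W W' i => by
        ext a
        exact Subtype.ext (app_res (coB X) i.unop.le a) }
    fun W r a => Subtype.ext (Scheme.Modules.Hom.app_smul (coB X) _ _)

/-- A cocycle as a family. -/
noncomputable abbrev zval {W : X.Opens} (c : Γ(Z1 X, W)) : Γ(P1 X, W) := (cocy X).ι.app W c

theorem zval_coBZ {W : X.Opens} (a : Γ(P0 X, W)) : zval X ((coBZ X).app W a) = (coB X).app W a := rfl

theorem incl_coBZ : incl (Coh.structureModule X) (fun U : AffineZariskiSite X => U.toOpens) ≫ coBZ X = 0 := by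
  refine Scheme.Modules.hom_ext _ _ fun W => ?_
  ext s
  refine Subtype.ext (funext fun p => ?_)
  show rp W p.2 (res _ _ s) - res _ _ s = 0
  rw [res_res, sub_self]

/-- The extension of cocycles by functions. -/
noncomputable def seq : ShortComplex X.Modules :=
  ShortComplex.mk (incl (Coh.structureModule X) (fun U : AffineZariskiSite X => U.toOpens)) (coBZ X) (incl_coBZ X)

theorem exists_preimage {W : X.Opens} (c : Γ(P1 X, W)) (hc : IsCocy X c) {B : AffineZariskiSite X}
    (hB : B.toOpens ≤ W) :
    ∃ a : Γ(P0 X, B.toOpens), (coB X).app B.toOpens a = res (P1 X) hB c := by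
  have glue : ∀ U : AffineZariskiSite X, ∃ a : Γ(Coh.structureModule X, B.toOpens ⊓ U.toOpens),
      ∀ (V : AffineZariskiSite X) (h : V ≤ U) (h' : V ≤ B),
        res _ (le_inf (AffineZariskiSite.toOpens_mono h') (AffineZariskiSite.toOpens_mono h)) a =
          res _ (le_inf ((AffineZariskiSite.toOpens_mono h').trans hB) le_rfl) (at1 c h - at1 c h') := by
    intro U
    let ι := {V : AffineZariskiSite X // V ≤ U ∧ V ≤ B}
    obtain ⟨a, ha, -⟩ := existsUnique_glue (M := Coh.structureModule X) (V := B.toOpens ⊓ U.toOpens)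
      (fun V : ι => V.1.toOpens)
      (fun V => le_inf (AffineZariskiSite.toOpens_mono V.2.2) (AffineZariskiSite.toOpens_mono V.2.1))
      (fun p hp => by
        obtain ⟨V, hVB, hVU, hpV⟩ := DefGlueLib.exists_common B U hp
        exact ⟨⟨V, hVU, hVB⟩, hpV⟩)
      (fun V => res _ (le_inf ((AffineZariskiSite.toOpens_mono V.2.2).trans hB) le_rfl)
        (at1 c V.2.1 - at1 c V.2.2))
      (fun V V' => eq_of_locally _ _ fun p hp => by
        obtain ⟨T, hTV, hTV', hpT⟩ := DefGlueLib.exists_common V.1 V'.1 hp
        refine ⟨T.toOpens, le_inf (AffineZariskiSite.toOpens_mono hTV) (AffineZariskiSite.toOpens_mono hTV'),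
          hpT, ?_⟩
        have hT : T.toOpens ≤ W ⊓ T.toOpens :=
          le_inf (((AffineZariskiSite.toOpens_mono hTV).trans (AffineZariskiSite.toOpens_mono V.2.2)).trans hB) le_rfl
        have e1 := congrArg (res (Coh.structureModule X) hT) (hc U V.1 T V.2.1 hTV)
        have e2 := congrArg (res (Coh.structureModule X) hT) (hc B V.1 T V.2.2 hTV)
        have e3 := congrArg (res (Coh.structureModule X) hT) (hc U V'.1 T V'.2.1 hTV')
        have e4 := congrArg (res (Coh.structureModule X) hT) (hc B V'.1 T V'.2.2 hTV')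
        rw [map_add, res_res] at e1 e2 e3 e4
        rw [res_res, res_res, res_res, res_res, map_sub, map_sub]
        have h12 := congrArg₂ (· - ·) e1 e2
        have h34 := congrArg₂ (· - ·) e3 e4
        simp only [add_sub_add_right_eq_sub] at h12 h34
        exact h12.symm.trans h34)
    exact ⟨a, fun V h h' => ha ⟨V, h, h'⟩⟩
  choose a ha using glue
  refine ⟨ofFam a, funext fun ⟨⟨U, V⟩, hVU⟩ => eq_of_locally _ _ fun p hp => ?_⟩
  obtain ⟨T, hTV, hTB, hpT⟩ := DefGlueLib.exists_common V B ⟨hp.2, hp.1⟩
  refine ⟨T.toOpens, le_inf (AffineZariskiSite.toOpens_mono hTB) (AffineZariskiSite.toOpens_mono hTV), hpT, ?_⟩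
  have hT : T.toOpens ≤ W ⊓ T.toOpens := le_inf ((AffineZariskiSite.toOpens_mono hTB).trans hB) le_rfl
  show res _ _ (rp B.toOpens hVU (a U) - a V) = res _ _ (res _ _ (at1 c hVU))
  rw [map_sub, res_res, ha U T (hTV.trans hVU) hTB, ha V T hTV hTB, res_res, map_sub, map_sub,
    sub_sub_sub_cancel_right]
  have e := congrArg (res (Coh.structureModule X) hT) (hc U V T hVU hTV)
  rw [map_add, res_res] at e
  rw [e, add_sub_cancel_right]

theorem seq_shortExact : (seq X).ShortExact := by
  refine { exact := ?_, mono_f := ?_, epi_g := ?_ }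
  · refine RelTildeX.exact_of_locally _ fun W a ha x hx => ?_
    obtain ⟨B, hxB, hB⟩ := DefGlueLib.exists_site_le hx
    refine ⟨B.toOpens, hB, hxB, res _ (le_inf hB le_rfl) (at0 a B), funext fun U => eq_of_locally _ _ fun p hp => ?_⟩
    obtain ⟨T, hTB, hTU, hpT⟩ := DefGlueLib.exists_common B U hp
    refine ⟨T.toOpens, le_inf (AffineZariskiSite.toOpens_mono hTB) (AffineZariskiSite.toOpens_mono hTU), hpT, ?_⟩
    show res _ _ (res _ _ (res _ _ (at0 a B))) = res _ _ (res _ _ (at0 a U))
    have hT : T.toOpens ≤ W ⊓ T.toOpens := le_inf ((AffineZariskiSite.toOpens_mono hTB).trans hB) le_rfl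
    have h0 : ∀ (U' : AffineZariskiSite X) (h : T ≤ U'), rp W h (at0 a U') = at0 a T := fun U' h => by
      have h1 := congrFun (congrArg (zval X) ha) ⟨(U', T), h⟩
      exact sub_eq_zero.1 (h1.trans rfl)
    have e := congrArg (res (Coh.structureModule X) hT) ((h0 B hTB).trans (h0 U hTU).symm)
    rw [res_res, res_res] at e
    rw [res_res, res_res, res_res]
    exact e
  · refine QCoh.mono_of_app_injective _ fun W s t hst => eq_of_locally _ _ fun p hp => ?_
    obtain ⟨B, hpB, hB⟩ := DefGlueLib.exists_site_le hp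
    refine ⟨W ⊓ B.toOpens, inf_le_left, ⟨hp, hpB⟩, ?_⟩
    exact congrFun hst B
  · refine RelTildeX.epi_of_locally _ fun W c x hx => ?_
    obtain ⟨B, hxB, hB⟩ := DefGlueLib.exists_site_le hx
    obtain ⟨a, ha⟩ := exists_preimage X (zval X c) ((cocy X).ι_app_mem W c) hB
    exact ⟨B.toOpens, hB, hxB, a, Subtype.ext ha⟩

end Groth.Agent.DefTan29
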