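import Groth.Agent.DefTan29.Cochain
import Groth.Agent.DefTan29.Alg
import Groth.Agent.DefTan29.Ops
import Groth.Agent.DefGlueLib.Auto
import Groth.Agent.DefGlueLib.Schless

/-!
Twisting a deformation by cocycles of derivations along small elements.
-/

universe u

open CategoryTheory CategoryTheory.Limits AlgebraicGeometry TopologicalSpace Opposite IsLocalRing

set_option backward.isDefEq.respectTransparency false
set_option backward.isDefEq.respectTransparency.types false

noncomputable section

namespace Groth.Agent.DefTan29

open Groth.Agent.AModX Groth.Agent.DefGlueLib Scheme ArtFun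

variable {k : Type u} [Field k] {X : Scheme.{u}} [X.Over (Spec (CommRingCat.of k))] [QuasiSeparated (xk k X)]

variable {C C' : Art k k}

theorem Small.map {y : C} (hy : Small y) (g : C ⟶ C') (hg : Function.Surjective g) : Small (g y) := by
  refine ⟨?_, fun m hm => ?_⟩
  · rw [Art.mem_maximalIdeal_iff, Art.res_app, ← Art.mem_maximalIdeal_iff]
    exact hy.1
  · obtain ⟨c, rfl⟩ := hg m
    rw [Art.mem_maximalIdeal_iff, Art.res_app, ← Art.mem_maximalIdeal_iff] at hm
    show g.toAlgHom c * g.toAlgHom y = 0
    rw [← map_mul, hy.2 c hm, map_zero]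

variable (D : PDef (xk k X) C)

theorem a_mul_eq_zero {y : C} (hy : Small y) {U : (AffineZariskiSite X)ᵒᵖ} {z : D.R.obj U}
    (hz : (D.q.app U).hom z = 0) : D.a U y * z = 0 := by
  have h : (maximalIdeal C).map (D.a U) * Ideal.span {D.a U y} = ⊥ := by
    rw [Ideal.map, Ideal.span_mul_span', Ideal.span_eq_bot]
    rintro _ ⟨_, ⟨m, hm, rfl⟩, _, rfl, rfl⟩
    show D.a U m * D.a U y = 0
    rw [← map_mul, hy.2 m hm, map_zero]
  have := Ideal.mul_mem_mul ((D.isDef U).ker_le (RingHom.mem_ker.2 hz)) (Ideal.mem_span_singleton_self (D.a U y))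
  rw [h, Ideal.mem_bot] at this
  rw [mul_comm]
  exact this

/-- `a(y)` times a lift of `b`. -/
def ins (y : C) (U : AffineZariskiSite X) (b : Γ(X, U.toOpens)) : D.R.obj (op U) :=
  D.a (op U) y * (map_qU_surjective D U b).choose

theorem ins_eq {y : C} (hy : Small y) {U : AffineZariskiSite X} {b : Γ(X, U.toOpens)} (z : D.R.obj (op U))
    (hz : (D.q.app (op U)).hom z = b) : ins D y U b = D.a (op U) y * z := by
  refine sub_eq_zero.1 ((mul_sub _ _ _).symm.trans (a_mul_eq_zero D hy ?_))
  rw [map_sub]
  exact sub_eq_zero.2 ((map_qU_surjective D U b).choose_spec.trans hz.symm)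

theorem q_ins {y : C} (hy : Small y) (U : AffineZariskiSite X) (b : Γ(X, U.toOpens)) :
    (D.q.app (op U)).hom (ins D y U b) = 0 := by
  refine (map_mul _ _ _).trans (mul_eq_zero_of_left ?_ _)
  exact ((D.isDef (op U)).comm y).trans ((congrArg (str (xk k X) U) ((Art.mem_maximalIdeal_iff C y).1 hy.1)).trans
    (map_zero _))

variable {D} {y : C} (hy : Small y) {U : AffineZariskiSite X}

include hy

theorem ins_add (b b' : Γ(X, U.toOpens)) : ins D y U (b + b') = ins D y U b + ins D y U b' := by
  obtain ⟨z, hz⟩ := map_qU_surjective D U b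
  obtain ⟨z', hz'⟩ := map_qU_surjective D U b'
  rw [ins_eq D hy z hz, ins_eq D hy z' hz', ins_eq D hy (z + z') (by rw [map_add]; exact congrArg₂ (· + ·) hz hz'),
    mul_add]

theorem ins_zero : ins D y U 0 = 0 := by
  rw [ins_eq D hy 0 (map_zero _), mul_zero]

theorem mul_ins (z : D.R.obj (op U)) (b : Γ(X, U.toOpens)) :
    z * ins D y U b = ins D y U ((D.qU U).hom z * b) := by
  obtain ⟨z', hz'⟩ := map_qU_surjective D U b
  rw [ins_eq D hy z' hz', ins_eq D hy (z * z') (by rw [map_mul]; exact congrArg (_ * ·) hz'), mul_left_comm]

theorem ins_mul_ins {y' : C} (hy' : Small y') (b b' : Γ(X, U.toOpens)) :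
    ins D y U b * ins D y' U b' = 0 := by
  rw [mul_ins hy', show (D.qU U).hom (ins D y U b) = 0 from q_ins D hy U b, zero_mul, ins_zero hy']

theorem map_ins {V : AffineZariskiSite X} (f : op U ⟶ op V) (b : Γ(X, U.toOpens)) :
    (D.R.map f).hom (ins D y U b) = ins D y V (rs (AffineZariskiSite.toOpens_mono f.unop.le) b) := by
  obtain ⟨z, hz⟩ := map_qU_surjective D U b
  rw [ins_eq D hy z hz, ins_eq D hy ((D.R.map f).hom z) ((D.q_map f z).trans (congrArg (rs _) hz)), map_mul]
  exact congrArg (· * _) (D.a_map f y)

omit hy in
theorem app_ins {g : C ⟶ C'} {D' : PDef (xk k X) C'} (φ : PHom g D D') (hy : Small y) (hy' : Small (g y))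
    (b : Γ(X, U.toOpens)) : (φ.app.app (op U)).hom (ins D y U b) = ins D' (g y) U b := by
  obtain ⟨z, hz⟩ := map_qU_surjective D U b
  have hq : (D'.q.app (op U)).hom ((φ.app.app (op U)).hom z) = b :=
    (ConcreteCategory.congr_hom (congrArg (fun t => NatTrans.app t (op U)) φ.q_app) z).trans hz
  rw [ins_eq D hy z hz, ins_eq D' hy' _ hq, map_mul]
  exact congrArg (· * _) (φ.comm (op U) y)

omit hy

theorem δ_self (α : Omega.sheaf (xk k X) ⟶ Z1 X) (V : AffineZariskiSite X) (a : Γ(X, V.toOpens)) :
    δ α (le_refl V) a = 0 := by
  have h := δ_cocy α (le_refl V) (le_refl V) a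
  have e : ∀ c : Γ(X, V.toOpens), rs (le_refl V.toOpens) c = c := fun c => resR_self c
  rw [e, e, sub_self] at h
  exact h

section Tw

variable (D) {r : ℕ} (ys : Fin r → C) (hys : ∀ j, Small (ys j)) (α : Fin r → (Omega.sheaf (xk k X) ⟶ Z1 X))

/-- The correction term. -/
def corr {U V : AffineZariskiSite X} (h : V ≤ U) (z : D.R.obj (op V)) : D.R.obj (op V) :=
  ∑ j, ins D (ys j) V (δ (α j) h ((D.q.app (op V)).hom z))

include hys

theorem q_corr {U V : AffineZariskiSite X} (h : V ≤ U) (z : D.R.obj (op V)) :
    (D.q.app (op V)).hom (corr D ys α h z) = 0 := by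
  rw [corr, map_sum]
  exact Finset.sum_eq_zero fun j _ => q_ins D (hys j) V _

theorem corr_mul_corr {U U' V : AffineZariskiSite X} (h : V ≤ U) (h' : V ≤ U') (z z' : D.R.obj (op V)) :
    corr D ys α h z * corr D ys α h' z' = 0 := by
  rw [corr, corr, Finset.sum_mul_sum]
  exact Finset.sum_eq_zero fun i _ => Finset.sum_eq_zero fun j _ => ins_mul_ins (hys i) (hys j) _ _

/-- The twist of one piece. -/
def twHom {U V : AffineZariskiSite X} (h : V ≤ U) : D.R.obj (op V) →+* D.R.obj (op V) where
  toFun z := z + corr D ys α h z
  map_zero' := by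
    rw [zero_add]
    refine Finset.sum_eq_zero fun j _ => ?_
    rw [map_zero, map_zero, ins_zero (hys j)]
  map_one' := by
    refine add_eq_left.2 (Finset.sum_eq_zero fun j _ => ?_)
    rw [show (D.q.app (op V)).hom 1 = str (xk k X) V 1 from (map_one _).trans (map_one _).symm, δ_const, ins_zero (hys j)]
  map_add' z z' := by
    rw [show corr D ys α h (z + z') = corr D ys α h z + corr D ys α h z' by
      rw [corr, corr, corr, ← Finset.sum_add_distrib]
      refine Finset.sum_congr rfl fun j _ => ?_
      rw [map_add, map_add, ins_add (hys j)]]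
    abel
  map_mul' z z' := by
    rw [show corr D ys α h (z * z') = z * corr D ys α h z' + z' * corr D ys α h z by
      rw [corr, corr, corr, Finset.mul_sum, Finset.mul_sum, ← Finset.sum_add_distrib]
      refine Finset.sum_congr rfl fun j _ => ?_
      rw [map_mul, δ_mul, mul_ins (hys j), mul_ins (hys j), ← ins_add (hys j)]
      rfl]
    linear_combination (-1 : D.R.obj (op V)) * corr_mul_corr D ys hys α h h z z'

theorem twHom_apply {U V : AffineZariskiSite X} (h : V ≤ U) (z : D.R.obj (op V)) :
    twHom D ys hys α h z = z + corr D ys α h z := rfl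

/-- The twisted deformation. -/
def tw : PDef (xk k X) C where
  R :=
    { obj := fun U => D.R.obj U
      map := fun {U V} f => CommRingCat.ofHom ((twHom D ys hys α f.unop.le).comp (D.R.map f).hom)
      map_id := fun U => CommRingCat.hom_ext (RingHom.ext fun z => by
        induction U using Opposite.rec with
        | op U =>
          refine (twHom_apply D ys hys α (le_refl U) _).trans ?_
          rw [show (D.R.map (𝟙 (op U))).hom z = z from ConcreteCategory.congr_hom (D.R.map_id _) z]
          refine add_eq_left.2 (Finset.sum_eq_zero fun j _ => ?_)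
          rw [δ_self, ins_zero (hys j)])
      map_comp := fun {U V T} f g => CommRingCat.hom_ext (RingHom.ext fun z => by
        induction U using Opposite.rec with
        | op U =>
        induction V using Opposite.rec with
        | op V =>
        induction T using Opposite.rec with
        | op T =>
          show twHom D ys hys α (f ≫ g).unop.le ((D.R.map (f ≫ g)).hom z) =
            twHom D ys hys α g.unop.le ((D.R.map g).hom (twHom D ys hys α f.unop.le ((D.R.map f).hom z)))
          set w := (D.R.map f).hom z
          rw [show (D.R.map (f ≫ g)).hom z = (D.R.map g).hom w from ConcreteCategory.congr_hom (D.R.map_comp f g) z,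
            twHom_apply, twHom_apply, twHom_apply, map_add, add_assoc]
          refine congrArg ((D.R.map g).hom w + ·) ?_
          have hq : (D.q.app (op T)).hom ((D.R.map g).hom w + (D.R.map g).hom (corr D ys α f.unop.le w)) =
              (D.q.app (op T)).hom ((D.R.map g).hom w) := by
            rw [map_add, D.q_map g (corr D ys α f.unop.le w), q_corr D ys hys, map_zero, add_zero]
          simp only [corr] at hq ⊢
          rw [hq, map_sum, ← Finset.sum_add_distrib]
          refine Finset.sum_congr rfl fun j _ => ?_
          rw [map_ins (hys j), ← ins_add (hys j)]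
          refine congrArg (ins D (ys j) T) ?_
          have e : (D.q.app (op T)).hom ((D.R.map g).hom w) =
              rs (AffineZariskiSite.toOpens_mono g.unop.le) ((D.q.app (op V)).hom w) := D.q_map g w
          rw [e, δ_cocy (α j) f.unop.le g.unop.le]
          exact (sub_add_cancel _ _).symm) }
  a := D.a
  a_map {U V} f c := by
    induction U using Opposite.rec with
    | op U =>
    induction V using Opposite.rec with
    | op V =>
      show twHom D ys hys α f.unop.le ((D.R.map f).hom (D.a (op U) c)) = D.a (op V) c
      rw [D.a_map f c, twHom_apply]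
      refine add_eq_left.2 (Finset.sum_eq_zero fun j _ => ?_)
      rw [show (D.q.app (op V)).hom (D.a (op V) c) = str (xk k X) V (C.res c) from (D.isDef (op V)).comm c, δ_const,
        ins_zero (hys j)]
  q :=
    { app := fun U => D.q.app U
      naturality := fun U V f => CommRingCat.hom_ext (RingHom.ext fun z => by
        induction U using Opposite.rec with
        | op U =>
        induction V using Opposite.rec with
        | op V =>
          show (D.q.app (op V)).hom (twHom D ys hys α f.unop.le ((D.R.map f).hom z)) = _
          rw [twHom_apply, map_add, q_corr D ys hys, add_zero]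
          exact D.q_map f z) }
  isDef U := D.isDef U

theorem tw_map_apply {U V : AffineZariskiSite X} (f : op U ⟶ op V) (z : D.R.obj (op U)) :
    ((tw D ys hys α).R.map f).hom z = (D.R.map f).hom z + corr D ys α f.unop.le ((D.R.map f).hom z) := rfl

omit hys in
/-- Twists are functorial. -/
def twMap {g : C ⟶ C'} {D' : PDef (xk k X) C'} (φ : PHom g D D') (hys : ∀ j, Small (ys j))
    (hys' : ∀ j, Small (g (ys j))) : PHom g (tw D ys hys α) (tw D' (fun j => g (ys j)) hys' α) where
  app :=
    { app := fun U => φ.app.app U
      naturality := fun U V f => CommRingCat.hom_ext (RingHom.ext fun z => by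
        induction U using Opposite.rec with
        | op U =>
        induction V using Opposite.rec with
        | op V =>
          show (φ.app.app (op V)).hom (twHom D ys hys α f.unop.le ((D.R.map f).hom z)) =
            twHom D' _ hys' α f.unop.le ((D'.R.map f).hom ((φ.app.app (op U)).hom z))
          have en : (D'.R.map f).hom ((φ.app.app (op U)).hom z) = (φ.app.app (op V)).hom ((D.R.map f).hom z) :=
            (ConcreteCategory.congr_hom (φ.app.naturality f) z).symm
          rw [en, twHom_apply, twHom_apply, map_add]
          refine congrArg (_ + ·) ?_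
          rw [corr, corr, map_sum]
          refine Finset.sum_congr rfl fun j _ => ?_
          rw [app_ins φ (hys j) (hys' j)]
          refine congrArg (fun b => ins D' (g (ys j)) V (δ (α j) f.unop.le b)) ?_
          exact (ConcreteCategory.congr_hom (congrArg (fun t => NatTrans.app t (op V)) φ.q_app) _).symm) }
  comm := φ.comm
  q_app := NatTrans.ext (funext fun U => CommRingCat.hom_ext (RingHom.ext fun z => phom_q φ U z))

/-- Twists with equal correction terms agree. -/
def twCongr {r' : ℕ} (ys' : Fin r' → C) (hys' : ∀ j, Small (ys' j)) (α' : Fin r' → (Omega.sheaf (xk k X) ⟶ Z1 X))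
    (he : ∀ {U V : AffineZariskiSite X} (h : V ≤ U) (b : Γ(X, V.toOpens)),
      ∑ j, ins D (ys j) V (δ (α j) h b) = ∑ j, ins D (ys' j) V (δ (α' j) h b)) :
    PHom (𝟙 C) (tw D ys hys α) (tw D ys' hys' α') where
  app :=
    { app := fun U => 𝟙 (D.R.obj U)
      naturality := fun U V f => CommRingCat.hom_ext (RingHom.ext fun z => by
        induction U using Opposite.rec with
        | op U =>
        induction V using Opposite.rec with
        | op V =>
          show twHom D ys hys α f.unop.le ((D.R.map f).hom z) = twHom D ys' hys' α' f.unop.le ((D.R.map f).hom z)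
          rw [twHom_apply, twHom_apply]
          exact congrArg (_ + ·) (he _ _)) }
  comm _ _ := rfl
  q_app := rfl

end Tw

/-- A morphism of families over the identity gives an equality of classes. -/
theorem cl_eq_of_phom {D D' : PDef (xk k X) C} (φ : PHom (𝟙 C) D D') : D'.toDefSch.cl = D.toDefSch.cl :=
  cl_eq_iff.2 ⟨Ov.toIso φ.glue⟩

/-- A morphism of families computes the functor. -/
theorem map_cl_of_phom {g : C ⟶ C'} {D : PDef (xk k X) C} {D' : PDef (xk k X) C'} (φ : PHom g D D') :
    (defFunctor X (xk k X)).map g D.toDefSch.cl = D'.toDefSch.cl :=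
  Quotient.sound ⟨φ.glue.toBC.symm⟩

end Groth.Agent.DefTan29
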